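import Groth.Agent.H23Az.Basic

/-!
# Base change, tensor products and descent of Azumaya algebras
-/

set_option autoImplicit false

universe u v w

open TensorProduct MulOpposite

namespace Groth.Agent.H23Az

section BaseChange

variable (R : Type u) [CommRing R] (S : Type v) [CommRing S] [Algebra R S]
  (A : Type w) [Ring A] [Algebra R A]

/-- The canonical map `S ⊗ (A ⊗ Aᵐᵒᵖ) → (S ⊗ A) ⊗ (S ⊗ A)ᵐᵒᵖ`. -/
noncomputable def bcOp : S ⊗[R] (A ⊗[R] Aᵐᵒᵖ) ≃ₗ[S] (S ⊗[R] A) ⊗[S] (S ⊗[R] A)ᵐᵒᵖ :=
  AlgebraTensorModule.distribBaseChange R S A Aᵐᵒᵖ ≪≫ₗ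
    TensorProduct.congr (LinearEquiv.refl S _)
      ((LinearEquiv.baseChange R S _ _ (opLinearEquiv R : A ≃ₗ[R] Aᵐᵒᵖ).symm) ≪≫ₗ
        (opLinearEquiv S : (S ⊗[R] A) ≃ₗ[S] (S ⊗[R] A)ᵐᵒᵖ))

theorem bcOp_tmul (s : S) (a : A) (b : Aᵐᵒᵖ) :
    bcOp R S A (s ⊗ₜ (a ⊗ₜ b)) = (s ⊗ₜ a) ⊗ₜ op ((1 : S) ⊗ₜ b.unop) := by
  simp [bcOp]

theorem mulLeftRight_bcOp (z : S ⊗[R] (A ⊗[R] Aᵐᵒᵖ)) :
    AlgHom.mulLeftRight S (S ⊗[R] A) (bcOp R S A z) =
      endBaseChange S A ((AlgHom.mulLeftRight R A).toLinearMap.baseChange S z) := by
  induction z using TensorProduct.induction_on with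
  | zero => simp
  | add x y hx hy => simp only [map_add, hx, hy]
  | tmul s t =>
    induction t using TensorProduct.induction_on with
    | zero => simp
    | add x y hx hy => simp only [TensorProduct.tmul_add, map_add, hx, hy]
    | tmul a b =>
      rw [bcOp_tmul, LinearMap.baseChange_tmul, endBaseChange_tmul]
      refine TensorProduct.AlgebraTensorModule.ext fun r x => ?_
      simp [TensorProduct.smul_tmul', mul_comm s r]

theorem isAzumaya_baseChange [IsAzumaya R A] : IsAzumaya S (S ⊗[R] A) := by
  have := faithfullyFlat_of_faithful (R := R) A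
  have : FaithfulSMul S (S ⊗[R] A) := faithfulSMul_of_faithfullyFlat _
  refine { bij := ?_, toFaithfulSMul := this }
  have hm : Function.Bijective ((AlgHom.mulLeftRight R A).toLinearMap.baseChange S) :=
    (LinearEquiv.baseChange R S _ _
      (LinearEquiv.ofBijective (AlgHom.mulLeftRight R A).toLinearMap IsAzumaya.bij)).bijective
  have h : Function.Bijective (AlgHom.mulLeftRight S (S ⊗[R] A) ∘ bcOp R S A) := by
    have : (AlgHom.mulLeftRight S (S ⊗[R] A) : _ → _) ∘ bcOp R S A =
        endBaseChange S A ∘ (AlgHom.mulLeftRight R A).toLinearMap.baseChange S :=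
      funext fun z => mulLeftRight_bcOp R S A z
    rw [this]
    exact (endBaseChange_bijective A S).comp hm
  exact (Function.Bijective.of_comp_iff _ (bcOp R S A).bijective).mp h

/-- A finite module killed by a base change along a `Spec`-surjective map is zero. -/
theorem subsingleton_of_baseChange (hS : Function.Surjective (PrimeSpectrum.comap (algebraMap R S)))
    (C : Type w) [AddCommGroup C] [Module R C] [Module.Finite R C]
    [Subsingleton (S ⊗[R] C)] : Subsingleton C := by
  rw [← Module.support_eq_empty_iff (R := R), Set.eq_empty_iff_forall_notMem]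
  intro p hp
  rw [Module.mem_support_iff_nontrivial_residueField_tensorProduct] at hp
  obtain ⟨q, rfl⟩ := hS p
  have := hp
  let K := (PrimeSpectrum.comap (algebraMap R S) q).asIdeal.ResidueField
  let f : K →ₐ[R] q.asIdeal.ResidueField := Ideal.ResidueField.mapₐ _ _ (Algebra.ofId R S) rfl
  letI : Algebra K q.asIdeal.ResidueField := f.toRingHom.toAlgebra
  haveI : IsScalarTower R K q.asIdeal.ResidueField :=
    IsScalarTower.of_algebraMap_eq fun x => (f.commutes x).symm
  have e1 := AlgebraTensorModule.cancelBaseChange R K q.asIdeal.ResidueField q.asIdeal.ResidueField C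
  have e2 := AlgebraTensorModule.cancelBaseChange R S q.asIdeal.ResidueField q.asIdeal.ResidueField C
  have hz : Subsingleton (q.asIdeal.ResidueField ⊗[R] C) := e2.symm.toEquiv.subsingleton
  have : Subsingleton (q.asIdeal.ResidueField ⊗[K] (K ⊗[R] C)) := e1.toEquiv.subsingleton
  have : Subsingleton (K ⊗[R] C) :=
    (Module.FaithfullyFlat.subsingleton_tensorProduct_iff_right K q.asIdeal.ResidueField).mp this
  exact not_subsingleton _ this

theorem isAzumaya_of_baseChange (hS : Function.Surjective (PrimeSpectrum.comap (algebraMap R S)))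
    [Module.Finite R A] [Module.Projective R A] [IsAzumaya S (S ⊗[R] A)] : IsAzumaya R A := by
  have hAf : Module.FaithfullyFlat R A := by
    refine ⟨fun m hm h => ?_⟩
    obtain ⟨r, hr, hr0⟩ := Submodule.exists_sub_one_mem_and_smul_eq_zero_of_fg_of_le_smul m ⊤
      Module.Finite.fg_top (by rw [h])
    have hr1 : algebraMap R S r = 0 := by
      refine eq_of_smul_eq_smul (α := S ⊗[R] A) fun x => ?_
      rw [zero_smul, algebraMap_smul]
      induction x using TensorProduct.induction_on with
      | zero => simp
      | add x y hx hy => rw [smul_add, hx, hy, add_zero]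
      | tmul s a => rw [← TensorProduct.tmul_smul, hr0 a Submodule.mem_top, TensorProduct.tmul_zero]
    obtain ⟨q, hq⟩ := hS ⟨m, hm.isPrime⟩
    have hrm : r ∈ m := by
      have : r ∈ (PrimeSpectrum.comap (algebraMap R S) q).asIdeal := by
        simp [hr1]
      rwa [hq] at this
    exact hm.ne_top ((Ideal.eq_top_iff_one _).mpr (by simpa using m.sub_mem hrm hr))
  have : FaithfulSMul R A := faithfulSMul_of_faithfullyFlat (R := R) A
  let u := (AlgHom.mulLeftRight R A).toLinearMap
  have hu : Function.Bijective (u.baseChange S) := by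
    have h : Function.Bijective (endBaseChange S A ∘ u.baseChange S) := by
      have : (endBaseChange (R := R) S A : _ → _) ∘ u.baseChange S =
          AlgHom.mulLeftRight S (S ⊗[R] A) ∘ bcOp R S A :=
        funext fun z => (mulLeftRight_bcOp R S A z).symm
      rw [this]
      exact IsAzumaya.bij.comp (bcOp R S A).bijective
    exact (Function.Bijective.of_comp_iff' (endBaseChange_bijective A S) _).mp h
  have hlt : Function.Bijective (u.lTensor S) := hu
  have : Module.Projective R (Module.End R A) := by
    obtain ⟨n, i, p, hpi⟩ := exists_retract (R := R) A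
    exact Module.Projective.of_split (LinearMap.lcomp R _ p ∘ₗ LinearMap.compRight R i)
      (LinearMap.lcomp R A i ∘ₗ LinearMap.compRight R p)
      (LinearMap.ext fun f => LinearMap.ext fun x => by
        have := fun y => LinearMap.congr_fun hpi y
        simp only [LinearMap.comp_apply, LinearMap.id_apply] at this
        simp [this])
  have : Module.Finite R (Module.End R A) := by
    obtain ⟨n, i, p, hpi⟩ := exists_retract (R := R) A
    refine Module.Finite.of_surjective (LinearMap.lcomp R A i ∘ₗ LinearMap.compRight R p)
      fun f => ⟨i ∘ₗ f ∘ₗ p, LinearMap.ext fun x => ?_⟩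
    have := fun y => LinearMap.congr_fun hpi y
    simp only [LinearMap.comp_apply, LinearMap.id_apply] at this
    simp [this]
  have hsurj : Function.Surjective u := by
    have hex : Function.Exact (u.lTensor S) ((LinearMap.range u).mkQ.lTensor S) :=
      lTensor_exact S (LinearMap.exact_map_mkQ_range u) (Submodule.mkQ_surjective _)
    have : Subsingleton (S ⊗[R] (Module.End R A ⧸ LinearMap.range u)) := by
      refine ⟨fun a b => ?_⟩
      have hs := LinearMap.lTensor_surjective S (Submodule.mkQ_surjective (LinearMap.range u))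
      have h0 : ∀ c, (LinearMap.range u).mkQ.lTensor S c = 0 := fun c => by
        obtain ⟨x, rfl⟩ := hlt.2 c
        exact hex.apply_apply_eq_zero x
      obtain ⟨x, rfl⟩ := hs a
      obtain ⟨y, rfl⟩ := hs b
      rw [h0, h0]
    have := subsingleton_of_baseChange R S hS (Module.End R A ⧸ LinearMap.range u)
    rwa [Submodule.Quotient.subsingleton_iff, LinearMap.range_eq_top] at this
  have hinj : Function.Injective u := by
    obtain ⟨s, hs⟩ := Module.projective_lifting_property u LinearMap.id hsurj
    let k : (A ⊗[R] Aᵐᵒᵖ) →ₗ[R] LinearMap.ker u :=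
      (LinearMap.id - s ∘ₗ u).codRestrict _ fun x => by
        have := LinearMap.congr_fun hs (u x)
        simp only [LinearMap.comp_apply, LinearMap.id_apply] at this
        simp [this]
    have hk : k ∘ₗ (LinearMap.ker u).subtype = LinearMap.id :=
      LinearMap.ext fun x => Subtype.ext (by
        have hx : u x.1 = 0 := x.2
        simp [k, hx])
    have : Module.Finite R (LinearMap.ker u) :=
      Module.Finite.of_surjective k fun x => ⟨x, LinearMap.congr_fun hk x⟩
    have : Subsingleton (S ⊗[R] LinearMap.ker u) := by
      have h1 : ∀ z, (LinearMap.ker u).subtype.lTensor S z = 0 := fun z => hlt.1 (by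
        rw [← LinearMap.comp_apply, ← LinearMap.lTensor_comp, LinearMap.comp_ker_subtype]
        simp)
      refine subsingleton_of_forall_eq 0 fun z => ?_
      have := congrArg (k.lTensor S) (h1 z)
      rwa [← LinearMap.comp_apply, ← LinearMap.lTensor_comp, hk, LinearMap.lTensor_id, map_zero]
        at this
    have := subsingleton_of_baseChange R S hS (LinearMap.ker u)
    rwa [Submodule.subsingleton_iff_eq_bot, LinearMap.ker_eq_bot] at this
  exact { bij := ⟨hinj, hsurj⟩ }

theorem isAzumaya_of_faithfullyFlat [Module.FaithfullyFlat R S] [IsAzumaya S (S ⊗[R] A)] :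
    IsAzumaya R A := by
  have hfin : Module.Finite R A := Module.Finite.of_finite_tensorProduct_of_faithfullyFlat S
  have : Module.Flat R A := Module.Flat.of_flat_tensorProduct R A S
  obtain ⟨n, f, hf⟩ := Module.Finite.exists_fin' R A
  have : Module.FinitePresentation R A := by
    refine Module.finitePresentation_of_surjective f hf ?_
    suffices h : Module.Finite R (LinearMap.ker f) from Module.Finite.iff_fg.mp h
    have hexact : Function.Exact ((LinearMap.ker f).subtype.baseChange S) (f.baseChange S) :=
      lTensor_exact S (LinearMap.exact_subtype_ker_map f) hf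
    have hinj : Function.Injective ((LinearMap.ker f).subtype.baseChange S) :=
      Module.Flat.lTensor_preserves_injective_linearMap (M := S) _
        (Submodule.subtype_injective _)
    obtain ⟨s, hs⟩ := Module.projective_lifting_property (f.baseChange S) LinearMap.id
      (LinearMap.lTensor_surjective S hf)
    let k : S ⊗[R] (Fin n → R) →ₗ[S] LinearMap.ker (f.baseChange S) :=
      (LinearMap.id - s ∘ₗ f.baseChange S).codRestrict _ fun x => by
        have := LinearMap.congr_fun hs (f.baseChange S x)
        simp only [LinearMap.comp_apply, LinearMap.id_apply] at this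
        simp [this]
    have : Module.Finite S (LinearMap.ker (f.baseChange S)) :=
      Module.Finite.of_surjective k fun x => ⟨x, Subtype.ext (by
        have hx : f.baseChange S x.1 = 0 := x.2
        simp [k, hx])⟩
    have : Module.Finite S (S ⊗[R] LinearMap.ker f) :=
      Module.Finite.equiv ((LinearEquiv.ofEq _ _ hexact.linearMap_ker_eq).trans
        (LinearEquiv.ofInjective _ hinj).symm)
    exact Module.Finite.of_finite_tensorProduct_of_faithfullyFlat S
  have : Module.Projective R A := Module.Flat.projective_of_finitePresentation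
  exact isAzumaya_of_baseChange R S A PrimeSpectrum.comap_surjective_of_faithfullyFlat

end BaseChange

section Tensor

variable (R : Type u) [CommRing R] (A : Type v) [Ring A] [Algebra R A]
  (B : Type w) [Ring B] [Algebra R B]

theorem isAzumaya_tensor [IsAzumaya R A] [IsAzumaya R B] : IsAzumaya R (A ⊗[R] B) := by
  have : FaithfulSMul R (A ⊗[R] B) := faithfulSMul_tensor A B
  refine { bij := ?_, toFaithfulSMul := this }
  let eA := LinearEquiv.ofBijective (AlgHom.mulLeftRight R A).toLinearMap IsAzumaya.bij
  let eB := LinearEquiv.ofBijective (AlgHom.mulLeftRight R B).toLinearMap IsAzumaya.bij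
  let j : (A ⊗[R] Aᵐᵒᵖ) ⊗[R] (B ⊗[R] Bᵐᵒᵖ) ≃ₗ[R] (A ⊗[R] B) ⊗[R] (A ⊗[R] B)ᵐᵒᵖ :=
    TensorProduct.tensorTensorTensorComm R A Aᵐᵒᵖ B Bᵐᵒᵖ ≪≫ₗ
      TensorProduct.congr (LinearEquiv.refl R _)
        (TensorProduct.congr (opLinearEquiv R).symm (opLinearEquiv R).symm ≪≫ₗ opLinearEquiv R)
  have key : ∀ z, AlgHom.mulLeftRight R (A ⊗[R] B) (j z) =
      homTensorHomEquiv R A B A B (TensorProduct.congr eA eB z) := by
    intro z
    induction z using TensorProduct.induction_on with
    | zero => simp
    | add x y hx hy => simp only [map_add, hx, hy]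
    | tmul s t =>
      induction s using TensorProduct.induction_on with
      | zero => simp
      | add x y hx hy => simp only [TensorProduct.add_tmul, map_add, hx, hy]
      | tmul a a' =>
        induction t using TensorProduct.induction_on with
        | zero => simp
        | add x y hx hy => simp only [TensorProduct.tmul_add, map_add, hx, hy]
        | tmul b b' =>
          refine TensorProduct.ext' fun x y => ?_
          simp [j, eA, eB]
          all_goals
            exact congrArg₂ (· ⊗ₜ[R] ·) (AlgHom.mulLeftRight_apply R A a a' x).symm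
              (AlgHom.mulLeftRight_apply R B b b' y).symm
  have h : Function.Bijective (AlgHom.mulLeftRight R (A ⊗[R] B) ∘ j) := by
    have : (AlgHom.mulLeftRight R (A ⊗[R] B) : _ → _) ∘ j =
        homTensorHomEquiv R A B A B ∘ TensorProduct.congr eA eB := funext key
    rw [this]
    exact (homTensorHomEquiv R A B A B).bijective.comp (TensorProduct.congr eA eB).bijective
  exact (Function.Bijective.of_comp_iff _ j.bijective).mp h

end Tensor

section Local

variable (R : Type u) [CommRing R] [IsLocalRing R] (A : Type v) [Ring A] [Algebra R A]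
  [IsAzumaya R A]

theorem twoSidedIdeal_eq_map_comap (I : TwoSidedIdeal A) :
    TwoSidedIdeal.asIdeal I =
      Ideal.map (algebraMap R A) ((TwoSidedIdeal.asIdeal I).comap (algebraMap R A)) := by
  refine le_antisymm (fun x hx => ?_) Ideal.map_comap_le
  have : Module.Free R A := Module.free_of_flat_of_isLocalRing
  let b := Module.Free.chooseBasis R A
  have hc : ∀ i, algebraMap R A (b.repr x i) ∈ TwoSidedIdeal.asIdeal I := by
    intro i
    let T : Module.End R A := (Algebra.linearMap R A) ∘ₗ (b.coord i)
    obtain ⟨z, hz⟩ := (IsAzumaya.bij (R := R) (A := A)).2 T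
    have hT : T x = algebraMap R A (b.repr x i) := rfl
    rw [← hT, ← hz, TwoSidedIdeal.mem_asIdeal]
    rw [TwoSidedIdeal.mem_asIdeal] at hx
    clear hz hT
    induction z using TensorProduct.induction_on with
    | zero => simp [I.zero_mem]
    | add u v hu hv => rw [map_add, LinearMap.add_apply]; exact I.add_mem hu hv
    | tmul p q =>
      rw [AlgHom.mulLeftRight_apply]
      exact I.mul_mem_right _ _ (I.mul_mem_left _ _ hx)
  rw [← b.linearCombination_repr x, Finsupp.linearCombination_apply]
  refine Submodule.sum_mem _ fun i _ => ?_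
  simp only []
  rw [Algebra.smul_def, Algebra.commutes]
  exact Ideal.mul_mem_left _ _ (Ideal.mem_map_of_mem _ (Ideal.mem_comap.mpr (hc i)))

theorem comap_map_eq (J : Ideal R) :
    (Ideal.map (algebraMap R A) J).comap (algebraMap R A) = J := by
  refine le_antisymm (fun r hr => ?_) Ideal.le_comap_map
  have : Module.Free R A := Module.free_of_flat_of_isLocalRing
  have : Nontrivial A := ((FaithfulSMul.algebraMap_injective R A).nontrivial)
  let b := Module.Free.chooseBasis R A
  have hmem : ∀ y ∈ Ideal.map (algebraMap R A) J, ∀ i, b.repr y i ∈ J := by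
    intro y hy
    induction hy using Submodule.span_induction with
    | mem z hz =>
      obtain ⟨j, hj, rfl⟩ := hz
      intro i
      rw [Algebra.algebraMap_eq_smul_one, map_smul, Finsupp.smul_apply, smul_eq_mul]
      exact J.mul_mem_right _ hj
    | zero => simp
    | add u v _ _ hu hv => intro i; simp only [map_add, Finsupp.add_apply]; exact J.add_mem (hu i) (hv i)
    | smul a z _ hz =>
      intro i
      rw [smul_eq_mul, ← b.linearCombination_repr z, Finsupp.linearCombination_apply,
        Finsupp.sum, Finset.mul_sum, map_sum, Finsupp.finsetSum_apply]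
      refine Submodule.sum_mem _ fun k _ => ?_
      rw [mul_smul_comm, map_smul, Finsupp.smul_apply, smul_eq_mul]
      exact J.mul_mem_right _ (hz k)
  have h1 : ∃ i, IsUnit (b.repr 1 i) := by
    by_contra h
    push Not at h
    obtain ⟨j⟩ := b.index_nonempty
    have hne : ∀ i, b.repr 1 i ∈ IsLocalRing.maximalIdeal R := fun i => h i
    have : b.repr (b j * 1) j ∈ IsLocalRing.maximalIdeal R := by
      rw [← b.linearCombination_repr (1 : A), Finsupp.linearCombination_apply,
        Finsupp.sum, Finset.mul_sum, map_sum, Finsupp.finsetSum_apply]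
      refine Submodule.sum_mem _ fun k _ => ?_
      rw [mul_smul_comm, map_smul, Finsupp.smul_apply, smul_eq_mul]
      exact Ideal.mul_mem_right _ _ (hne k)
    simp [mul_one] at this
  obtain ⟨i, hi⟩ := h1
  have := hmem _ (Ideal.mem_comap.mp hr) i
  rw [Algebra.algebraMap_eq_smul_one, map_smul, Finsupp.smul_apply, smul_eq_mul] at this
  exact (Ideal.mul_unit_mem_iff_mem J hi).mp this

end Local

section Connected

variable {R : Type u} [CommRing R] [ConnectedSpace (PrimeSpectrum R)]
  {A : Type v} [Ring A] [Algebra R A] [Module.Finite R A] [Module.Projective R A]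

theorem idempotent_eq_zero (e : A) (he : IsIdempotentElem e)
    (R' : Type w) [CommRing R'] [Nontrivial R'] [Algebra R R']
    (h : (1 : R') ⊗ₜ[R] e = (0 : R' ⊗[R] A)) : e = 0 := by
  let M := LinearMap.range (LinearMap.mulLeft R e)
  let k : A →ₗ[R] M := (LinearMap.mulLeft R e).rangeRestrict
  have hk : k ∘ₗ M.subtype = LinearMap.id := by
    refine LinearMap.ext fun x => Subtype.ext ?_
    obtain ⟨y, hy⟩ := x.2
    simp only [k, LinearMap.comp_apply, Submodule.subtype_apply, LinearMap.id_apply]
    change e * x.1 = x.1
    rw [← hy, LinearMap.mulLeft_apply, ← mul_assoc, he.eq]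
  have : Module.Finite R M := Module.Finite.of_surjective k (LinearMap.surjective_rangeRestrict _)
  have : Module.Projective R M := Module.Projective.of_split _ _ hk
  have : Subsingleton (R' ⊗[R] M) := by
    refine subsingleton_of_forall_eq 0 fun z => ?_
    obtain ⟨w, rfl⟩ := LinearMap.lTensor_surjective R' (LinearMap.surjective_rangeRestrict
      (LinearMap.mulLeft R e)) z
    have hz : ∀ w : R' ⊗[R] A, (LinearMap.mulLeft R e).lTensor R' w = ((1 : R') ⊗ₜ e) * w := by
      intro w
      induction w using TensorProduct.induction_on with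
      | zero => simp
      | add u v hu hv => simp only [map_add, hu, hv, mul_add]
      | tmul r a => simp
    have h2 : M.subtype.lTensor R' (k.lTensor R' w) = 0 := by
      rw [← LinearMap.comp_apply, ← LinearMap.lTensor_comp]
      change (LinearMap.mulLeft R e).lTensor R' w = 0
      rw [hz, h, zero_mul]
    have := congrArg (k.lTensor R') h2
    rwa [← LinearMap.comp_apply, ← LinearMap.lTensor_comp, hk, LinearMap.lTensor_id, map_zero]
      at this
  obtain ⟨q⟩ : Nonempty (PrimeSpectrum R') := inferInstance
  have h0 : Module.rankAtStalk (R := R) M (PrimeSpectrum.comap (algebraMap R R') q) = 0 := by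
    rw [← Module.rankAtStalk_baseChange, Module.rankAtStalk_eq_zero_of_subsingleton]
    rfl
  have hall : Module.rankAtStalk (R := R) M = 0 := funext fun p => by
    have : Module.FinitePresentation R M := Module.finitePresentation_of_projective R M
    exact ((Module.isLocallyConstant_rankAtStalk (R := R) (M := M)).apply_eq_of_preconnectedSpace p
      (PrimeSpectrum.comap (algebraMap R R') q)).trans h0
  have : Subsingleton M := Module.rankAtStalk_eq_zero_iff_subsingleton.mp hall
  have := congrArg Subtype.val (Subsingleton.elim (k 1) 0)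
  simpa [k] using this

end Connected

end Groth.Agent.H23Az
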