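import Groth.Agent.H18Az.Inner
import Groth.Agent.H23Az.Ops
import Mathlib.LinearAlgebra.Matrix.Charpoly.Coeff
import Mathlib.Tactic

/-! # Automorphisms of Azumaya algebras are inner near every prime -/

set_option autoImplicit false

universe u v

open TensorProduct

namespace Groth.Agent.H23Az

variable {R : Type u} [CommRing R]

theorem exists_inner_near {A : Type v} [Ring A] [Algebra R A] [IsAzumaya R A] (φ : A ≃ₐ[R] A)
    (p : Ideal R) [p.IsPrime] :
    ∃ (a b : A) (c : R), c ∉ p ∧ (∀ x, φ x * a = a * x) ∧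
      a * b = algebraMap R A c ∧ b * a = algebraMap R A c := by
  classical
  let Rp := Localization.AtPrime p
  haveI : IsAzumaya Rp (Rp ⊗[R] A) := isAzumaya_baseChange R Rp A
  let φp : Rp ⊗[R] A ≃ₐ[Rp] Rp ⊗[R] A := Algebra.TensorProduct.congr AlgEquiv.refl φ
  obtain ⟨u, hu⟩ := H18Az.Inner.exists_inner φp
  let g : A →ₗ[R] Rp ⊗[R] A := TensorProduct.mk R Rp A 1
  haveI : IsLocalizedModule p.primeCompl g :=
    (isLocalizedModule_iff_isBaseChange p.primeCompl Rp g).mpr (TensorProduct.isBaseChange R A Rp)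
  obtain ⟨⟨a, s⟩, ha⟩ := IsLocalizedModule.surj p.primeCompl g (u : Rp ⊗[R] A)
  obtain ⟨⟨b, t⟩, hb⟩ := IsLocalizedModule.surj p.primeCompl g ((u⁻¹ : (Rp ⊗[R] A)ˣ) : Rp ⊗[R] A)
  have ha' : g a = (s : R) • (u : Rp ⊗[R] A) := ha.symm
  have hb' : g b = (t : R) • ((u⁻¹ : (Rp ⊗[R] A)ˣ) : Rp ⊗[R] A) := hb.symm
  have hg : ∀ x y : A, g (x * y) = g x * g y := fun x y => by
    simp [g, Algebra.TensorProduct.tmul_mul_tmul]
  have hc : ∀ x : A, g (φ x * a) = g (a * x) := fun x => by
    have h1 := hu (g x)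
    have h2 : φp (g x) = g (φ x) := by simp [φp, g]
    rw [h2] at h1
    rw [hg, hg, ha', h1, mul_smul_comm, mul_assoc, Units.inv_mul, mul_one, smul_mul_assoc]
  have hg1 : g 1 = 1 := rfl
  have hab : g (a * b) = g (((s : R) * t) • (1 : A)) := by
    rw [hg, ha', hb', map_smul, hg1, smul_mul_smul_comm, Units.mul_inv]
  have hba : g (b * a) = g (((s : R) * t) • (1 : A)) := by
    rw [hg, ha', hb', map_smul, hg1, smul_mul_smul_comm, Units.inv_mul, mul_comm (t : R)]
  obtain ⟨n, X, hX⟩ := Module.Finite.exists_fin (R := R) (M := A)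
  have key : ∀ x y : A, g x = g y → ∃ k : p.primeCompl, (k : R) • x = (k : R) • y := fun x y h => by
    obtain ⟨k, hk⟩ := IsLocalizedModule.exists_of_eq (S := p.primeCompl) h
    exact ⟨k, hk⟩
  choose k hk using fun i => key _ _ (hc (X i))
  obtain ⟨k₁, hk₁⟩ := key _ _ hab
  obtain ⟨k₂, hk₂⟩ := key _ _ hba
  let K : p.primeCompl := (∏ i, k i) * k₁ * k₂
  refine ⟨(K : R) • a, (K : R) • b, (K : R) * K * (s * t), (K * K * (s * t)).2, ?_, ?_, ?_⟩
  · intro x
    rw [mul_smul_comm, smul_mul_assoc]
    have hx : x ∈ Submodule.span R (Set.range X) := by rw [hX]; trivial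
    induction hx using Submodule.span_induction with
    | mem y hy =>
      obtain ⟨i, rfl⟩ := hy
      obtain ⟨e, he⟩ : (k i : R) ∣ (K : R) := by
        simp only [K, Submonoid.coe_mul, Submonoid.coe_finsetProd]
        exact ((Finset.dvd_prod_of_mem (fun j => (k j : R)) (Finset.mem_univ i)).mul_right _).mul_right _
      rw [he, mul_comm, mul_smul, mul_smul, hk i]
    | zero => simp
    | add y z _ _ hy hz => simp only [map_add, add_mul, mul_add, smul_add, hy, hz]
    | smul r y _ hy =>
      simp only [map_smul, smul_mul_assoc, mul_smul_comm]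
      rw [smul_comm, hy, smul_comm]
  · have : (K : R) • (a * b) = (K : R) • (((s : R) * t) • (1 : A)) := by
      rw [show (K : R) = ((∏ i, k i : p.primeCompl) : R) * k₂ * k₁ by simp [K, mul_right_comm],
        mul_smul, hk₁, ← mul_smul]
    rw [smul_mul_smul_comm, mul_smul, this, Algebra.algebraMap_eq_smul_one, smul_smul, smul_smul, mul_assoc]
  · have : (K : R) • (b * a) = (K : R) • (((s : R) * t) • (1 : A)) := by
      rw [show (K : R) = ((∏ i, k i : p.primeCompl) : R) * k₁ * k₂ by simp [K],
        mul_smul, hk₂, ← mul_smul]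
    rw [smul_mul_smul_comm, mul_smul, this, Algebra.algebraMap_eq_smul_one, smul_smul, smul_smul, mul_assoc]

theorem charpoly_algEquiv {n : Type} [Fintype n] [DecidableEq n] (α : Matrix n n R ≃ₐ[R] Matrix n n R)
    (x : Matrix n n R) : (α x).charpoly = x.charpoly := by
  classical
  cases isEmpty_or_nonempty n
  · rw [Subsingleton.elim (α x) x]
  haveI : IsAzumaya R (Matrix n n R) := IsAzumaya.matrix R n
  rw [← sub_eq_zero]
  by_contra h
  obtain ⟨i, hi⟩ : ∃ i, ((α x).charpoly - x.charpoly).coeff i ≠ 0 := by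
    by_contra h0
    push Not at h0
    exact h (Polynomial.ext fun i => by simpa using h0 i)
  set d := ((α x).charpoly - x.charpoly).coeff i with hd
  obtain ⟨m, hm, hle⟩ := Ideal.exists_le_maximal (Module.annihilator R (R ∙ d : Submodule R R)) (by
    intro htop
    refine hi ?_
    have : (1 : R) ∈ Module.annihilator R (R ∙ d : Submodule R R) := htop ▸ Submodule.mem_top
    simpa using Module.mem_annihilator.mp this ⟨d, Submodule.mem_span_singleton_self d⟩)
  haveI := hm.isPrime
  obtain ⟨a, b, c, hc, hcom, hab, -⟩ := exists_inner_near α m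
  have hdet : a.det ∉ m := fun hmem => by
    have h1 := congrArg Matrix.det hab
    rw [Matrix.det_mul, Matrix.algebraMap_eq_diagonal, Matrix.det_diagonal] at h1
    have h2 : (∏ _i : n, c) ∈ m := by
      have := m.mul_mem_right b.det hmem
      rw [h1] at this; simpa using this
    rw [Finset.prod_const] at h2
    exact hc (hm.isPrime.mem_of_pow_mem _ h2)
  refine hdet (hle ?_)
  have hmat : (α x).charmatrix * a.map Polynomial.C = a.map Polynomial.C * x.charmatrix := by
    simp only [Matrix.charmatrix, sub_mul, mul_sub, RingHom.mapMatrix_apply, ← Matrix.map_mul, hcom x]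
    rw [(Matrix.scalar_commute _ (fun r => Commute.all _ r) _).eq]
  have h3 := congrArg Matrix.det hmat
  have h4 : (a.map Polynomial.C).det = Polynomial.C a.det := (RingHom.map_det _ a).symm
  rw [Matrix.det_mul, Matrix.det_mul, ← Matrix.charpoly, ← Matrix.charpoly, h4] at h3
  have h5 : a.det * d = 0 := by
    rw [hd, ← Polynomial.coeff_C_mul, mul_sub, ← h3, mul_comm, sub_self, Polynomial.coeff_zero]
  rw [Module.mem_annihilator]
  rintro ⟨y, hy⟩
  obtain ⟨r, rfl⟩ := Submodule.mem_span_singleton.mp hy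
  apply Subtype.ext
  simp [mul_left_comm, h5]

end Groth.Agent.H23Az
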