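import Groth.Agent.H23Az.TensorMatrix
import Groth.Agent.H23Az.SpreadInner

/-! # The antisymmetriser in the tensor power of a matrix algebra -/

set_option autoImplicit false

universe u v w

open TensorProduct

namespace Groth.Agent.H23Az.TensorMatrix

variable {n : ℕ} (U : Type w) [CommRing U]

/-- The coordinates of the top exterior power. -/
def wVec (f : Ix n) : U := ((1 : Matrix (Fin n) (Fin n) U).submatrix f id).det

/-- The antisymmetriser. -/
def antisym : Matrix (Ix n) (Ix n) U := Matrix.vecMulVec (wVec U) (wVec U)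

theorem wVec_id : wVec U (id : Ix n) = 1 := by simp [wVec]

theorem antisym_map {V : Type v} [CommRing V] (ρ : U →+* V) :
    (antisym (n := n) U).map ρ = antisym V := by
  have h : ∀ f : Ix n, ρ (wVec U f) = wVec V f := fun f => by
    rw [wVec, RingHom.map_det, RingHom.mapMatrix_apply, ← Matrix.submatrix_map,
      Matrix.map_one _ (map_zero ρ) (map_one ρ)]
    rfl
  ext f g
  simp [antisym, Matrix.vecMulVec_apply, h]

variable {U}

theorem kron_mulVec_wVec (a : Matrix (Fin n) (Fin n) U) :
    Matrix.mulVec (kron U fun _ => a) (wVec U) = a.det • wVec U := by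
  ext f
  have h1 : (a.submatrix f id).det = wVec U f * a.det := by
    rw [wVec, ← Matrix.det_mul]
    congr 1
    ext i j
    simp [Matrix.mul_apply, Matrix.one_apply]
  rw [Pi.smul_apply, smul_eq_mul, mul_comm, ← h1]
  have h2 : a.submatrix f id = fun i => ∑ j : Fin n, a (f i) j • (1 : Matrix (Fin n) (Fin n) U) j := by
    funext i k
    simp [Matrix.one_apply, Finset.sum_apply]
  conv_rhs => rw [show (a.submatrix f id).det =
    (Matrix.detRowAlternating : (Fin n → U) [⋀^Fin n]→ₗ[U] U).toMultilinearMap (a.submatrix f id) from rfl,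
    h2, MultilinearMap.map_sum]
  simp only [Matrix.mulVec, dotProduct, kron_apply]
  refine Finset.sum_congr rfl fun g _ => ?_
  rw [MultilinearMap.map_smul_univ, smul_eq_mul]
  rfl

theorem vecMul_kron_wVec (a : Matrix (Fin n) (Fin n) U) :
    Matrix.vecMul (wVec U) (kron U fun _ => a) = a.det • wVec U := by
  rw [← Matrix.det_transpose, ← kron_mulVec_wVec a.transpose, ← Matrix.mulVec_transpose]
  rfl

theorem kron_commute_antisym (a : Matrix (Fin n) (Fin n) U) :
    (kron U fun _ => a) * antisym U = antisym U * kron U fun _ => a := by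
  rw [antisym, Matrix.mul_vecMulVec, Matrix.vecMulVec_mul, kron_mulVec_wVec, vecMul_kron_wVec,
    Matrix.smul_vecMulVec, Matrix.vecMulVec_smul]

theorem antisym_mul_mul_antisym (x : Matrix (Ix n) (Ix n) U) :
    antisym U * x * antisym U = dotProduct (wVec U) (Matrix.mulVec x (wVec U)) • antisym U := by
  rw [antisym, Matrix.mul_assoc, Matrix.mul_vecMulVec, Matrix.vecMulVec_mul_vecMulVec,
    Matrix.vecMulVec_smul]

theorem antisym_regular : antisym U * Matrix.single id id 1 * antisym U = antisym (n := n) U := by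
  rw [antisym_mul_mul_antisym]
  simp [Matrix.single_mulVec, wVec_id, dotProduct, Function.update_apply]

theorem single_eq_mul_antisym_mul (f g : Ix n) :
    Matrix.single f g (1 : U) = Matrix.single f id 1 * antisym U * Matrix.single id g 1 := by
  rw [Matrix.single_mul_mul_single]
  simp [antisym, Matrix.vecMulVec_apply, wVec_id]

section Naturality

variable {R : Type u} [CommRing R] {A : Type v} [Ring A] [Algebra R A] [Algebra R U]

theorem tensorHom_map (θ : A →ₐ[R] Matrix (Fin n) (Fin n) U) {V : Type w} [CommRing V] [Algebra R V]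
    (ρ : U →ₐ[R] V) (t : ⨂[R] _ : Fin n, A) :
    tensorHom (ρ.mapMatrix.comp θ) t = (tensorHom θ t).map ρ := by
  induction t using PiTensorProduct.induction_on with
  | add a b ha hb => simp [map_add, ha, hb, Matrix.map_add]
  | smul_tprod r x =>
    rw [map_smul, map_smul, tensorHom_tprod, tensorHom_tprod, Matrix.map_smul ρ r (map_smul ρ r)]
    congr 1
    exact (kron_map U ρ.toRingHom _).symm

theorem tensorBC_map (θ : A →ₐ[R] Matrix (Fin n) (Fin n) U) {V : Type w} [CommRing V] [Algebra R V]
    (ρ : U →ₐ[R] V) (z : U ⊗[R] (⨂[R] _ : Fin n, A)) :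
    tensorBC V (ρ.mapMatrix.comp θ) (ρ.toLinearMap.rTensor _ z) = (tensorBC U θ z).map ρ := by
  induction z using TensorProduct.induction_on with
  | zero => simp
  | add a b ha hb => simp [map_add, ha, hb, Matrix.map_add]
  | tmul c t =>
    rw [LinearMap.rTensor_tmul, tensorBC_tmul, tensorBC_tmul, tensorHom_map]
    ext f g; simp

theorem tensorBC_intertwine (θ₁ θ₂ : A →ₐ[R] Matrix (Fin n) (Fin n) U)
    (a : Matrix (Fin n) (Fin n) U) (h : ∀ x, θ₂ x * a = a * θ₁ x)
    (z : U ⊗[R] (⨂[R] _ : Fin n, A)) :
    tensorBC U θ₂ z * (kron U fun _ => a) = (kron U fun _ => a) * tensorBC U θ₁ z := by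
  induction z using TensorProduct.induction_on with
  | zero => simp
  | add x y hx hy => simp [map_add, add_mul, mul_add, hx, hy]
  | tmul c t =>
    rw [tensorBC_tmul, tensorBC_tmul, smul_mul_assoc, mul_smul_comm]
    congr 1
    induction t using PiTensorProduct.induction_on with
    | add x y hx hy => simp [map_add, add_mul, mul_add, hx, hy]
    | smul_tprod r x =>
      rw [map_smul, map_smul, tensorHom_tprod, tensorHom_tprod, smul_mul_assoc, mul_smul_comm,
        ← kron_mul, ← kron_mul]
      simp only [h]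

/-- The preimages of the antisymmetriser under two splittings agree. -/
theorem tensorBC_antisym_eq (θ₁ θ₂ : A →ₐ[R] Matrix (Fin n) (Fin n) U)
    (h₁ : Function.Bijective (Algebra.TensorProduct.lift (Algebra.ofId U (Matrix (Fin n) (Fin n) U))
      θ₁ fun x y => Algebra.commutes x _))
    (h₂ : Function.Bijective (Algebra.TensorProduct.lift (Algebra.ofId U (Matrix (Fin n) (Fin n) U))
      θ₂ fun x y => Algebra.commutes x _))
    (z : U ⊗[R] (⨂[R] _ : Fin n, A)) (hz : tensorBC U θ₁ z = antisym U) :
    tensorBC U θ₂ z = antisym U := by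
  classical
  rcases Nat.eq_zero_or_pos n with hn | hn
  · subst hn
    have hs : θ₂ = θ₁ := AlgHom.ext fun x => Subsingleton.elim _ _
    rw [hs, hz]
  haveI : Nonempty (Fin n) := ⟨⟨0, hn⟩⟩
  haveI : IsAzumaya U (Matrix (Fin n) (Fin n) U) := IsAzumaya.matrix U (Fin n)
  rw [← sub_eq_zero]
  set D := tensorBC U θ₂ z - antisym U with hD
  ext f g
  rw [Matrix.zero_apply]
  by_contra hd
  obtain ⟨m, hm, hle⟩ := Ideal.exists_le_maximal (Module.annihilator U (U ∙ D f g : Submodule U U)) (by
    intro htop
    refine hd ?_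
    have : (1 : U) ∈ Module.annihilator U (U ∙ D f g : Submodule U U) := htop ▸ Submodule.mem_top
    simpa using Module.mem_annihilator.mp this ⟨D f g, Submodule.mem_span_singleton_self _⟩)
  haveI := hm.isPrime
  let β := (AlgEquiv.ofBijective _ h₁).symm.trans (AlgEquiv.ofBijective _ h₂)
  have hβ : ∀ x, β (θ₁ x) = θ₂ x := fun x => by
    have e1 : AlgEquiv.ofBijective _ h₁ (1 ⊗ₜ x) = θ₁ x :=
      (Algebra.TensorProduct.lift_tmul (Algebra.ofId U (Matrix (Fin n) (Fin n) U)) _
        (fun x y => Algebra.commutes x _) 1 x).trans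
        (by rw [map_one, one_mul])
    rw [← e1, AlgEquiv.trans_apply, AlgEquiv.symm_apply_apply]
    exact (Algebra.TensorProduct.lift_tmul (Algebra.ofId U (Matrix (Fin n) (Fin n) U)) _
        (fun x y => Algebra.commutes x _) 1 x).trans
        (by rw [map_one, one_mul])
  obtain ⟨a, b, c, hc, hcom, hab, -⟩ := exists_inner_near β m
  have h := tensorBC_intertwine θ₁ θ₂ a (fun x => by rw [← hβ]; exact hcom _) z
  rw [hz, kron_commute_antisym, ← sub_eq_zero, ← sub_mul, ← hD] at h
  have h2 : (kron U fun _ => a) * (kron U fun _ => b) = c ^ n • (1 : Matrix (Ix n) (Ix n) U) := by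
    rw [← kron_mul, hab]
    simp only [Algebra.algebraMap_eq_smul_one]
    rw [MultilinearMap.map_smul_univ, kron_one]
    simp
  have h3 : c ^ n • D = 0 := by
    rw [← mul_one D, ← mul_smul_comm, ← h2, ← mul_assoc, h, zero_mul]
  refine hc (hm.isPrime.mem_of_pow_mem n (hle ?_))
  rw [Module.mem_annihilator]
  rintro ⟨y, hy⟩
  obtain ⟨r, rfl⟩ := Submodule.mem_span_singleton.mp hy
  apply Subtype.ext
  have h4 := congr_fun (congr_fun h3 f) g
  simp only [Matrix.smul_apply, smul_eq_mul, Matrix.zero_apply] at h4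
  simp [mul_left_comm, h4]

end Naturality

end Groth.Agent.H23Az.TensorMatrix
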