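import Mathlib

/-!
# Basic lemmas on Azumaya algebras

Endomorphism algebras of finite projective faithful modules, base change, faithful flatness.
-/

set_option autoImplicit false

universe u v w

open TensorProduct

namespace Groth.Agent.H23Az

variable {R : Type u} [CommRing R]

/-- A faithful finite flat module is faithfully flat. -/
theorem faithfullyFlat_of_faithful (M : Type v) [AddCommGroup M] [Module R M] [Module.Finite R M]
    [Module.Flat R M] [FaithfulSMul R M] : Module.FaithfullyFlat R M := by
  refine ⟨fun m hm h => ?_⟩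
  obtain ⟨r, hr, hr0⟩ := Submodule.exists_sub_one_mem_and_smul_eq_zero_of_fg_of_le_smul m ⊤
    Module.Finite.fg_top (by rw [h])
  have : r = 0 := eq_of_smul_eq_smul (α := M) fun x => by
    rw [hr0 x Submodule.mem_top, zero_smul]
  subst this
  exact hm.ne_top ((Ideal.eq_top_iff_one _).mpr (by simpa using m.neg_mem hr))

/-- A faithfully flat module is faithful. -/
theorem faithfulSMul_of_faithfullyFlat (M : Type v) [AddCommGroup M] [Module R M]
    [Module.FaithfullyFlat R M] : FaithfulSMul R M := by
  refine ⟨fun {r s} h => sub_eq_zero.mp ?_⟩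
  set t := r - s with ht
  have h0 : ∀ x : M, t • x = 0 := fun x => by rw [ht, sub_smul, h x, sub_self]
  have : (t • (LinearMap.id : R →ₗ[R] R)) = 0 := by
    rw [Module.FaithfullyFlat.zero_iff_lTensor_zero R M]
    refine TensorProduct.ext' fun x a => ?_
    simp only [LinearMap.lTensor_tmul, LinearMap.smul_apply, LinearMap.id_coe, id_eq,
      TensorProduct.tmul_smul, LinearMap.zero_apply]
    rw [TensorProduct.smul_tmul', h0, TensorProduct.zero_tmul]
  simpa using LinearMap.congr_fun this 1

/-- A tensor product of two faithful finite flat modules is faithful. -/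
theorem faithfulSMul_tensor (M : Type v) [AddCommGroup M] [Module R M] [Module.Finite R M]
    [Module.Flat R M] [FaithfulSMul R M]
    (N : Type w) [AddCommGroup N] [Module R N] [FaithfulSMul R N] :
    FaithfulSMul R (M ⊗[R] N) := by
  have := faithfullyFlat_of_faithful (R := R) M
  refine ⟨fun {r s} h => ?_⟩
  have h0 : ((r - s) • (LinearMap.id : N →ₗ[R] N)) = 0 := by
    rw [Module.FaithfullyFlat.zero_iff_lTensor_zero R M]
    refine LinearMap.ext fun x => ?_
    rw [LinearMap.lTensor_smul, LinearMap.lTensor_id, LinearMap.smul_apply, LinearMap.zero_apply,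
      LinearMap.id_apply, sub_smul, h x, sub_self]
  exact eq_of_smul_eq_smul (α := N) fun x => by
    simpa [sub_smul, sub_eq_zero] using LinearMap.congr_fun h0 x

/-- Base change of endomorphisms. -/
noncomputable def endBaseChange (S : Type w) [CommRing S] [Algebra R S]
    (M : Type v) [AddCommGroup M] [Module R M] :
    S ⊗[R] Module.End R M →ₗ[S] Module.End S (S ⊗[R] M) :=
  LinearMap.liftBaseChange S (LinearMap.baseChangeHom R S M M)

@[simp]
theorem endBaseChange_tmul (S : Type w) [CommRing S] [Algebra R S]
    (M : Type v) [AddCommGroup M] [Module R M] (s : S) (f : Module.End R M) :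
    endBaseChange S M (s ⊗ₜ f) = s • f.baseChange S := by
  simp [endBaseChange]

variable (P : Type v) [AddCommGroup P] [Module R P] [Module.Finite R P] [Module.Projective R P]

/-- A finite projective module is a retract of some `Fin (n + 1) → R`. -/
theorem exists_retract : ∃ (n : ℕ) (i : P →ₗ[R] (Fin (n + 1) → R))
    (p : (Fin (n + 1) → R) →ₗ[R] P), p ∘ₗ i = LinearMap.id := by
  obtain ⟨n, f, hf⟩ := Module.Finite.exists_fin' R P
  have hp : Function.Surjective (f ∘ₗ LinearMap.funLeft R R (Fin.castSucc : Fin n → Fin (n+1))) :=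
    hf.comp (LinearMap.funLeft_surjective_of_injective R R _ (Fin.castSucc_injective n))
  obtain ⟨i, hi⟩ := Module.projective_lifting_property
    (f ∘ₗ LinearMap.funLeft R R (Fin.castSucc : Fin n → Fin (n+1))) LinearMap.id hp
  exact ⟨n, i, _, hi⟩

theorem endBaseChange_bijective (S : Type w) [CommRing S] [Algebra R S] :
    Function.Bijective (endBaseChange (R := R) S P) := by
  obtain ⟨n, i, p, hpi⟩ := exists_retract (R := R) P
  let F := Fin (n + 1) → R
  have hF : Function.Bijective (endBaseChange (R := R) S F) := by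
    have h := (IsBaseChange.end (TensorProduct.isBaseChange R F S))
    have : endBaseChange (R := R) S F = h.equiv.toLinearMap := by
      refine TensorProduct.AlgebraTensorModule.ext fun s f => ?_
      rw [endBaseChange_tmul, LinearEquiv.coe_toLinearMap, IsBaseChange.equiv_tmul]
      congr 1
      refine TensorProduct.AlgebraTensorModule.ext fun t x => ?_
      have h1 : t ⊗ₜ[R] x = t • (TensorProduct.mk R S F 1 x) := by
        simp [TensorProduct.smul_tmul']
      rw [h1, map_smul, map_smul, IsBaseChange.endHom_comp_apply]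
      simp
    rw [this]
    exact h.equiv.bijective
  let ι : Module.End R P →ₗ[R] Module.End R F :=
    LinearMap.lcomp R F p ∘ₗ LinearMap.compRight R i
  let π : Module.End R F →ₗ[R] Module.End R P :=
    LinearMap.lcomp R P i ∘ₗ LinearMap.compRight R p
  have hι : ∀ f : Module.End R P, ι f = i ∘ₗ f ∘ₗ p := fun f => rfl
  have hπ : ∀ g : Module.End R F, π g = p ∘ₗ g ∘ₗ i := fun g => rfl
  have hπι : π ∘ₗ ι = LinearMap.id := by
    refine LinearMap.ext fun f => ?_
    rw [LinearMap.comp_apply, hπ, hι, LinearMap.id_apply]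
    calc p ∘ₗ (i ∘ₗ f ∘ₗ p) ∘ₗ i = (p ∘ₗ i) ∘ₗ f ∘ₗ (p ∘ₗ i) := by
          simp only [LinearMap.comp_assoc]
      _ = f := by rw [hpi, LinearMap.id_comp, LinearMap.comp_id]
  have c1 : ∀ z, endBaseChange S F (ι.baseChange S z) =
      i.baseChange S ∘ₗ endBaseChange S P z ∘ₗ p.baseChange S := by
    intro z
    induction z using TensorProduct.induction_on with
    | zero => simp
    | add x y hx hy => simp only [map_add, hx, hy, LinearMap.add_comp, LinearMap.comp_add]
    | tmul s f =>
      rw [LinearMap.baseChange_tmul, endBaseChange_tmul, endBaseChange_tmul, hι,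
        LinearMap.baseChange_comp, LinearMap.baseChange_comp, LinearMap.smul_comp,
        LinearMap.comp_smul]
  have c2 : ∀ z, endBaseChange S P (π.baseChange S z) =
      p.baseChange S ∘ₗ endBaseChange S F z ∘ₗ i.baseChange S := by
    intro z
    induction z using TensorProduct.induction_on with
    | zero => simp
    | add x y hx hy => simp only [map_add, hx, hy, LinearMap.add_comp, LinearMap.comp_add]
    | tmul s f =>
      rw [LinearMap.baseChange_tmul, endBaseChange_tmul, endBaseChange_tmul, hπ,
        LinearMap.baseChange_comp, LinearMap.baseChange_comp, LinearMap.smul_comp,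
        LinearMap.comp_smul]
  have hpi' : p.baseChange S ∘ₗ i.baseChange S = LinearMap.id := by
    rw [← LinearMap.baseChange_comp, hpi, LinearMap.baseChange_id]
  refine ⟨fun a b hab => ?_, fun T => ?_⟩
  · have h1 : ι.baseChange S a = ι.baseChange S b := hF.1 (by rw [c1, c1, hab])
    have h2 := congrArg (π.baseChange S) h1
    rwa [← LinearMap.comp_apply, ← LinearMap.baseChange_comp, hπι, LinearMap.baseChange_id,
      ← LinearMap.comp_apply, ← LinearMap.baseChange_comp, hπι, LinearMap.baseChange_id] at h2
  · obtain ⟨z, hz⟩ := hF.2 (i.baseChange S ∘ₗ T ∘ₗ p.baseChange S)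
    refine ⟨π.baseChange S z, ?_⟩
    rw [c2, hz]
    calc p.baseChange S ∘ₗ (i.baseChange S ∘ₗ T ∘ₗ p.baseChange S) ∘ₗ i.baseChange S
        = (p.baseChange S ∘ₗ i.baseChange S) ∘ₗ T ∘ₗ (p.baseChange S ∘ₗ i.baseChange S) := by
          simp only [LinearMap.comp_assoc]
      _ = T := by rw [hpi', LinearMap.id_comp, LinearMap.comp_id]

/-- `End R P` is Azumaya for a faithful finite projective `P`. -/
theorem isAzumaya_end [FaithfulSMul R P] : IsAzumaya R (Module.End R P) := by
  obtain ⟨n, i, p, hpi⟩ := exists_retract (R := R) P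
  let F := Fin (n + 1) → R
  have hFaz : IsAzumaya R (Module.End R F) := by
    have := IsAzumaya.matrix R (Fin (n + 1))
    exact IsAzumaya.of_AlgEquiv R _ _ (algEquivMatrix' (R := R) (n := Fin (n + 1))).symm
  let ι : Module.End R P →ₗ[R] Module.End R F :=
    LinearMap.lcomp R F p ∘ₗ LinearMap.compRight R i
  let π : Module.End R F →ₗ[R] Module.End R P :=
    LinearMap.lcomp R P i ∘ₗ LinearMap.compRight R p
  have hpix : ∀ x, p (i x) = x := fun x => LinearMap.congr_fun hpi x
  have hπι : π ∘ₗ ι = LinearMap.id :=
    LinearMap.ext fun f => LinearMap.ext fun x => by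
      change p (i (f (p (i x)))) = f x
      rw [hpix, hpix]
  let ι2 : Module.End R P ⊗[R] (Module.End R P)ᵐᵒᵖ →ₗ[R]
      Module.End R F ⊗[R] (Module.End R F)ᵐᵒᵖ :=
    TensorProduct.map ι ((MulOpposite.opLinearEquiv R).toLinearMap ∘ₗ ι ∘ₗ
      (MulOpposite.opLinearEquiv R).symm.toLinearMap)
  let π2 : Module.End R F ⊗[R] (Module.End R F)ᵐᵒᵖ →ₗ[R]
      Module.End R P ⊗[R] (Module.End R P)ᵐᵒᵖ :=
    TensorProduct.map π ((MulOpposite.opLinearEquiv R).toLinearMap ∘ₗ π ∘ₗ
      (MulOpposite.opLinearEquiv R).symm.toLinearMap)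
  have h2 : ∀ w, π2 (ι2 w) = w := by
    intro w
    induction w using TensorProduct.induction_on with
    | zero => simp
    | add x y hx hy => simp only [map_add, hx, hy]
    | tmul a b =>
      have e := fun f => LinearMap.congr_fun hπι f
      simp only [LinearMap.comp_apply, LinearMap.id_apply] at e
      simp [ι2, π2, e]
  have c1 : ∀ w, AlgHom.mulLeftRight R (Module.End R F) (ι2 w) =
      ι ∘ₗ AlgHom.mulLeftRight R (Module.End R P) w ∘ₗ π := by
    intro w
    induction w using TensorProduct.induction_on with
    | zero => simp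
    | add x y hx hy => simp only [map_add, hx, hy, LinearMap.add_comp, LinearMap.comp_add]
    | tmul a b =>
      refine LinearMap.ext fun g => LinearMap.ext fun x => ?_
      simp [ι2, ι, π, Module.End.mul_apply, LinearMap.compRight]
  have c2 : ∀ z, AlgHom.mulLeftRight R (Module.End R P) (π2 z) =
      π ∘ₗ AlgHom.mulLeftRight R (Module.End R F) z ∘ₗ ι := by
    intro w
    induction w using TensorProduct.induction_on with
    | zero => simp
    | add x y hx hy => simp only [map_add, hx, hy, LinearMap.add_comp, LinearMap.comp_add]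
    | tmul a b =>
      refine LinearMap.ext fun g => LinearMap.ext fun x => ?_
      simp [π2, ι, π, Module.End.mul_apply, LinearMap.compRight]
  have hproj : Module.Projective R (Module.End R P) := Module.Projective.of_split ι π hπι
  have hfin : Module.Finite R (Module.End R P) :=
    Module.Finite.of_surjective π fun f => ⟨ι f, LinearMap.congr_fun hπι f⟩
  refine { bij := ?bij, eq_of_smul_eq_smul := fun {r s} h => ?faith }
  case bij =>
    refine ⟨fun a b hab => ?_, fun T => ?_⟩
    · have : ι2 a = ι2 b := hFaz.bij.1 (by rw [c1, c1, hab])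
      rw [← h2 a, this, h2 b]
    · obtain ⟨z, hz⟩ := hFaz.bij.2 (ι ∘ₗ T ∘ₗ π)
      refine ⟨π2 z, ?_⟩
      rw [c2, hz]
      calc π ∘ₗ (ι ∘ₗ T ∘ₗ π) ∘ₗ ι = (π ∘ₗ ι) ∘ₗ T ∘ₗ (π ∘ₗ ι) := by
            simp only [LinearMap.comp_assoc]
        _ = T := by rw [hπι, LinearMap.id_comp, LinearMap.comp_id]
  case faith =>
    exact eq_of_smul_eq_smul (α := P) fun x => LinearMap.congr_fun (h 1) x

end Groth.Agent.H23Az
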