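import Groth.Agent.H18Az.SplitNear
import Mathlib.RingTheory.Flat.LocallyFree
import Mathlib.RingTheory.Flat.FaithfullyFlat.Algebra
import Mathlib.LinearAlgebra.DFinsupp
import Mathlib.LinearAlgebra.Matrix.Reindex
import Mathlib.RingTheory.Spectrum.Prime.FreeLocus

/-! # A faithfully flat splitting of an Azumaya algebra of constant rank -/

set_option autoImplicit false

universe u

open TensorProduct

namespace Groth.Agent.H23Az

theorem exists_global_splitting {R : Type u} [CommRing R] (A : Type u) [Ring A] [Algebra R A]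
    [IsAzumaya R A] (n : ℕ) (hrk : ∀ p : PrimeSpectrum R, Module.rankAtStalk (R := R) A p = n ^ 2) :
    ∃ (U : Type u) (_ : CommRing U) (_ : Algebra R U), Module.FaithfullyFlat R U ∧
      ∃ θ : A →ₐ[R] Matrix (Fin n) (Fin n) U, Function.Bijective
        (Algebra.TensorProduct.lift (Algebra.ofId U (Matrix (Fin n) (Fin n) U)) θ
          fun x _ => Algebra.commutes x _) := by
  classical
  have hloc : ∀ p : PrimeSpectrum R, ∃ f : R, f ∉ p.asIdeal ∧
      ∃ (R' : Type u) (_ : CommRing R') (_ : Algebra R R'), Module.Flat R R' ∧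
        (∀ q : PrimeSpectrum R, f ∉ q.asIdeal → ∃ Q : PrimeSpectrum R', Q.comap (algebraMap R R') = q) ∧
        Nonempty ((R' ⊗[R] A) ≃ₐ[R'] Matrix (Fin n) (Fin n) R') := by
    intro p
    obtain ⟨f, hf, R', hR', hA1, hA2, hT, hfin, het, hff, r, hr, ⟨E⟩⟩ :=
      H18Az.SplitNear.split_near A p.asIdeal
    haveI : Module.Flat R R' := Module.Flat.trans R (Localization.Away f) R'
    have hlift : ∀ q : PrimeSpectrum R, f ∉ q.asIdeal →
        ∃ Q : PrimeSpectrum R', Q.comap (algebraMap R R') = q := fun q hq => by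
      obtain ⟨Q₀, rfl⟩ : q ∈ Set.range (PrimeSpectrum.comap (algebraMap R (Localization.Away f))) := by
        rw [PrimeSpectrum.localization_away_comap_range (Localization.Away f) f]; exact hq
      obtain ⟨Q, rfl⟩ := PrimeSpectrum.comap_surjective_of_faithfullyFlat
        (A := Localization.Away f) (B := R') Q₀
      exact ⟨Q, by rw [← PrimeSpectrum.comap_comp_apply, ← IsScalarTower.algebraMap_eq]⟩
    obtain ⟨Q, hQ⟩ := hlift p hf
    haveI : Nontrivial R' := Q.nontrivial
    have hrn : r = n := by
      have h1 := congrFun (Module.rankAtStalk_eq_of_equiv E.toLinearEquiv) Q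
      rw [Module.rankAtStalk_baseChange, hQ, hrk, Module.rankAtStalk_eq_finrank_of_free] at h1
      simp [Module.finrank_matrix] at h1
      nlinarith [Nat.pow_left_injective (two_ne_zero) (h1.trans (sq r).symm)]
    subst hrn
    exact ⟨f, hf, R', hR', hA1, inferInstance, hlift, ⟨E⟩⟩
  choose f hf R' hR' hA' hflat hlift hE using hloc
  have hspan : (1 : R) ∈ Ideal.span (Set.range f) := by
    by_contra h1
    obtain ⟨m, hm, hle⟩ := Ideal.exists_le_maximal _ ((Ideal.ne_top_iff_one _).mpr h1)
    exact hf ⟨m, hm.isPrime⟩ (hle (Ideal.subset_span ⟨_, rfl⟩))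
  obtain ⟨c, hc⟩ := Finsupp.mem_span_range_iff_exists_finsupp.mp hspan
  let S := c.support
  letI : ∀ k : S, CommRing (R' k.1) := fun k => hR' k.1
  letI : ∀ k : S, Algebra R (R' k.1) := fun k => hA' k.1
  haveI : ∀ k : S, Module.Flat R (R' k.1) := fun k => hflat k.1
  let U := ∀ k : S, R' k.1
  haveI : Module.Flat R U := Module.Flat.of_linearEquiv
    (DFinsupp.linearEquivFunOnFintype (R := R) (ι := S) (M := fun k => R' k.1)).symm
  haveI : Module.FaithfullyFlat R U := Module.FaithfullyFlat.of_comap_surjective fun q => by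
    obtain ⟨k, hk, hkq⟩ : ∃ k ∈ S, f k ∉ q.asIdeal := by
      by_contra h0
      push Not at h0
      refine q.2.ne_top ((Ideal.eq_top_iff_one _).mpr ?_)
      rw [← hc]
      exact Ideal.sum_mem _ fun k hk => Ideal.mul_mem_left _ _ (h0 k hk)
    obtain ⟨Q, hQ⟩ := hlift k q hkq
    exact ⟨Q.comap (Pi.evalRingHom (fun k : S => R' k.1) ⟨k, hk⟩), by
      rw [← PrimeSpectrum.comap_comp_apply, ← hQ]; rfl⟩
  let E : ∀ k : S, (R' k.1 ⊗[R] A) ≃ₐ[R' k.1] Matrix (Fin n) (Fin n) (R' k.1) :=
    fun k => (hE k.1).some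
  let θk : ∀ k : S, A →ₐ[R] Matrix (Fin n) (Fin n) (R' k.1) := fun k =>
    ((E k).toAlgHom.restrictScalars R).comp Algebra.TensorProduct.includeRight
  let θ : A →ₐ[R] Matrix (Fin n) (Fin n) U :=
    { toFun := fun a => Matrix.of fun i j k => θk k a i j
      map_one' := by
        ext i j k
        simp only [Matrix.of_apply, map_one, Matrix.one_apply]; split_ifs <;> rfl
      map_mul' := fun a b => by
        ext i j k
        simp only [Matrix.of_apply, map_mul, Matrix.mul_apply]
        exact (Finset.sum_apply (M := fun k : S => R' k.1) k Finset.univ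
          fun l => (fun k => θk k a i l * θk k b l j)).symm
      map_zero' := by ext i j k; simp; rfl
      map_add' := fun a b => by ext i j k; simp; rfl
      commutes' := fun r => by
        ext i j k
        simp only [Matrix.of_apply, AlgHom.commutes, Matrix.algebraMap_matrix_apply]
        split_ifs <;> rfl }
  refine ⟨U, inferInstance, inferInstance, inferInstance, θ, ?_⟩
  set Φ := Algebra.TensorProduct.lift (Algebra.ofId U (Matrix (Fin n) (Fin n) U)) θ
    fun x _ => Algebra.commutes x _
  have hΦ : ∀ (u : U) (a : A), Φ (u ⊗ₜ a) = u • θ a := fun u a =>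
    (Algebra.TensorProduct.lift_tmul (Algebra.ofId U (Matrix (Fin n) (Fin n) U)) θ
      (fun x _ => Algebra.commutes x _) u a).trans (Algebra.smul_def u _).symm
  have hcomp : ∀ (k : S) (z : U ⊗[R] A) (i j : Fin n), Φ z i j k =
      E k ((Pi.evalAlgHom R (fun k : S => R' k.1) k).toLinearMap.rTensor A z) i j := by
    intro k z i j
    induction z using TensorProduct.induction_on with
    | zero => simp; rfl
    | add a b ha hb => simp only [map_add, Matrix.add_apply, ← ha, ← hb]; rfl
    | tmul u a =>
      rw [hΦ, LinearMap.rTensor_tmul]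
      have : (Pi.evalAlgHom R (fun k : S => R' k.1) k).toLinearMap u ⊗ₜ[R] a =
          u k • ((1 : R' k.1) ⊗ₜ[R] a) := by
        rw [TensorProduct.smul_tmul', smul_eq_mul, mul_one]; rfl
      rw [this, map_smul]; rfl
  have hsurj : Function.Surjective Φ := by
    intro M
    have : ∀ k : S, ∃ z : U ⊗[R] A,
        (Pi.evalAlgHom R (fun k : S => R' k.1) k).toLinearMap.rTensor A z =
          (E k).symm (M.map fun x => x k) := fun k => by
      refine LinearMap.rTensor_surjective A (fun y => ⟨Pi.single k y, ?_⟩) _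
      simp
    choose z hz using this
    refine ⟨∑ k : S, (Pi.single k 1 : U) • z k, ?_⟩
    ext i j l
    rw [map_sum, Matrix.sum_apply, Finset.sum_apply, Finset.sum_eq_single l]
    · rw [map_smul, Matrix.smul_apply, smul_eq_mul, Pi.mul_apply, Pi.single_eq_same, one_mul, hcomp,
        hz, AlgEquiv.apply_symm_apply]
      rfl
    · intro k _ hk
      rw [map_smul, Matrix.smul_apply, smul_eq_mul, Pi.mul_apply, Pi.single_eq_of_ne (Ne.symm hk),
        zero_mul]
    · simp
  refine Module.bijective_of_surjective_of_rankAtStalk_eq (φ := Φ.toLinearMap) hsurj fun m hm => ?_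
  haveI : Nontrivial U := PrimeSpectrum.nontrivial (⟨m, inferInstance⟩ : PrimeSpectrum U)
  rw [Module.rankAtStalk_baseChange, hrk, Module.rankAtStalk_eq_finrank_of_free]
  simp [Module.finrank_matrix, sq]

end Groth.Agent.H23Az
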