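import Groth.Agent.H23Az.Ops
import Groth.Agent.H18Az.Criterion
import Groth.Agent.S5719
import Groth.Agent.S14949
import Groth.Agent.S14952
import Groth.Agent.S14953
import Groth.Agent.S14954
import Groth.Agent.S2019

/-!
# Azumaya algebras over a fibre product of rings
-/

set_option autoImplicit false

universe u

open TensorProduct

namespace Groth.Agent.H23Az

/-- Cancellation of base change for a possibly noncommutative algebra. -/
noncomputable def cancelBC (R S T D : Type u) [CommRing R] [CommRing S] [CommRing T] [Algebra R S] [Algebra S T]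
    [Algebra R T] [IsScalarTower R S T] [Ring D] [Algebra R D] : T ⊗[S] (S ⊗[R] D) ≃ₐ[T] T ⊗[R] D :=
  AlgEquiv.symm <| AlgEquiv.ofLinearEquiv
    (TensorProduct.AlgebraTensorModule.cancelBaseChange R S T T D).symm
    (by simp [Algebra.TensorProduct.one_def]) <|
      LinearMap.map_mul_of_map_mul_tmul (fun _ _ _ _ ↦ by simp)

/-- A residue field algebra is Azumaya if one over a field extension is. -/
theorem isAzumaya_residue_of_point {R S : Type u} [CommRing R] [CommRing S] [Algebra R S] (D : Type u) [Ring D]
    [Algebra R D] [IsAzumaya S (S ⊗[R] D)] (q : Ideal S) [q.IsPrime] (p : Ideal R) [p.IsPrime]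
    (hp : q.comap (algebraMap R S) = p) : IsAzumaya p.ResidueField (p.ResidueField ⊗[R] D) := by
  let f : p.ResidueField →ₐ[R] q.ResidueField := Ideal.ResidueField.mapₐ _ _ (Algebra.ofId R S) hp.symm
  letI : Algebra p.ResidueField q.ResidueField := f.toRingHom.toAlgebra
  haveI : IsScalarTower R p.ResidueField q.ResidueField :=
    IsScalarTower.of_algebraMap_eq fun x => (f.commutes x).symm
  haveI := isAzumaya_baseChange S q.ResidueField (S ⊗[R] D)
  let e₁ := cancelBC R S q.ResidueField D
  let e₂ := cancelBC R p.ResidueField q.ResidueField D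
  haveI := IsAzumaya.of_AlgEquiv q.ResidueField (q.ResidueField ⊗[S] (S ⊗[R] D))
    (q.ResidueField ⊗[p.ResidueField] (p.ResidueField ⊗[R] D)) (e₁.trans e₂.symm)
  exact isAzumaya_of_faithfullyFlat p.ResidueField q.ResidueField _

variable {B' B A' A : Type u} [CommRing B'] [CommRing B] [CommRing A'] [CommRing A]
  [Algebra B' B] [Algebra B' A'] [Algebra B A] [Algebra A' A] [Algebra B' A] [IsScalarTower B' B A] [IsScalarTower B' A' A]

omit [Algebra B A] [Algebra A' A] [IsScalarTower B' B A] [IsScalarTower B' A' A] [Algebra B' A] in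
/-- A prime of a nontrivial fibre. -/
theorem exists_prime_of_fibre (S : Type u) [CommRing S] [Algebra B' S] (q : Ideal B') [q.IsPrime]
    [Nontrivial (S ⊗[B'] q.ResidueField)] : ∃ b : PrimeSpectrum S, b.asIdeal.comap (algebraMap B' S) = q := by
  obtain ⟨M, hM⟩ := Ideal.exists_maximal (S ⊗[B'] q.ResidueField)
  refine ⟨⟨M.comap (algebraMap S _), inferInstance⟩, ?_⟩
  show (M.comap (algebraMap S _)).comap (algebraMap B' S) = q
  rw [Ideal.comap_comap, ← IsScalarTower.algebraMap_eq B' S (S ⊗[B'] q.ResidueField),
    ← (Algebra.TensorProduct.includeRight (R := B') (A := S) (B := q.ResidueField)).comp_algebraMap,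
    ← Ideal.comap_comap]
  haveI : (M.comap (Algebra.TensorProduct.includeRight (R := B') (A := S) (B := q.ResidueField)).toRingHom).IsPrime :=
    Ideal.comap_isPrime _ _
  erw [(Ideal.eq_bot_or_top (M.comap (Algebra.TensorProduct.includeRight (R := B') (A := S)
    (B := q.ResidueField)).toRingHom)).resolve_right (Ideal.IsPrime.ne_top ‹_›)]
  exact Ideal.ext fun x => Ideal.algebraMap_residueField_eq_zero

/-- Azumaya algebras over a fibre product. -/
theorem isAzumaya_of_pair (hsq : EtMil.IsFibreSquare B' B A' A) (D' : Type u) [Ring D'] [Algebra B' D']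
    [IsAzumaya B (B ⊗[B'] D')] [IsAzumaya A' (A' ⊗[B'] D')] : IsAzumaya B' D' := by
  haveI : Module.FinitePresentation B (B ⊗[B'] D') := Module.finitePresentation_of_projective _ _
  haveI : Module.FinitePresentation A' (A' ⊗[B'] D') := Module.finitePresentation_of_projective _ _
  haveI := Groth.Agent.S14953.result B' B A' A hsq D'
  haveI := Groth.Agent.S14952.result B' B A' A hsq D'
  haveI := Groth.Agent.S14954.result B' B A' A hsq D'
  haveI : Module.Projective B' D' := Module.Flat.projective_of_finitePresentation
  refine (Groth.Agent.S5719.result B' D').mpr fun q _ => ?_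
  refine (_root_.H18Az.Criterion.isAzumaya_field_iff q.ResidueField (q.ResidueField ⊗[B'] D')).mp ?_
  by_cases hB : Nontrivial (B ⊗[B'] q.ResidueField)
  · obtain ⟨b, hb⟩ := exists_prime_of_fibre B q
    exact isAzumaya_residue_of_point D' b.asIdeal q hb
  · haveI : Subsingleton (B ⊗[B'] q.ResidueField) := not_nontrivial_iff_subsingleton.mp hB
    by_cases hA : Nontrivial (A' ⊗[B'] q.ResidueField)
    · obtain ⟨b, hb⟩ := exists_prime_of_fibre A' q
      exact isAzumaya_residue_of_point D' b.asIdeal q hb
    · haveI : Subsingleton (A' ⊗[B'] q.ResidueField) := not_nontrivial_iff_subsingleton.mp hA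
      exact absurd (Groth.Agent.S14949.result B' B A' A hsq q.ResidueField) (not_subsingleton _)

end Groth.Agent.H23Az
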