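import Groth.Agent.H23Az.GlobalSplit
import Groth.Agent.H23Az.Antisym
import Groth.Agent.H23Az.CharpolyDescent
import Groth.Agent.H23Az.Basic

/-! # The tensor power of an Azumaya algebra of degree `n` is an endomorphism algebra -/

set_option autoImplicit false

universe u v w

open TensorProduct

namespace Groth.Agent.H23Az

variable {R : Type u} [CommRing R]

theorem mem_range_of_baseChange {M N : Type v} [AddCommGroup M] [Module R M] [AddCommGroup N]
    [Module R N] (U : Type w) [CommRing U] [Algebra R U] [Module.FaithfullyFlat R U]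
    (f : M →ₗ[R] N) (y : N) (h : (1 : U) ⊗ₜ[R] y ∈ LinearMap.range (f.lTensor U)) :
    y ∈ LinearMap.range f := by
  obtain ⟨z, hz⟩ := h
  rw [← Submodule.Quotient.mk_eq_zero]
  refine Module.FaithfullyFlat.tensorProduct_mk_injective (A := R) (B := U) _ ?_
  have h0 : ((LinearMap.range f).mkQ.lTensor U) (f.lTensor U z) = 0 := by
    rw [← LinearMap.lTensor_comp_apply, LinearMap.range_mkQ_comp, LinearMap.lTensor_zero]
    rfl
  rw [hz, LinearMap.lTensor_tmul] at h0
  simp only [TensorProduct.mk_apply, tmul_zero]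
  exact h0

section Regular

variable {T : Type v} [Ring T] [Algebra R T]

theorem exists_end [Module.Finite R T] [Module.Projective R T] (s t₀ : T) (hs : s * t₀ * s = s)
    (hrk : ∀ x, ∃ r : R, r • s = s * x * s) (k : ℕ) (a b : Fin k → T)
    (hab : ∑ j, a j * s * b j = 1) :
    ∃ (E : Submodule R T), Module.Finite R E ∧ Module.Projective R E ∧
      Nonempty (T ≃ₐ[R] Module.End R E) := by
  let e := t₀ * s
  have he : e * e = e := by simp only [e]; rw [mul_assoc, ← mul_assoc s, hs]
  have hse : s * e = s := by simp only [e]; rw [← mul_assoc, hs]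
  have hex : ∀ x, ∃ r : R, r • e = e * x * e := fun x => by
    obtain ⟨r, hr⟩ := hrk (x * t₀)
    refine ⟨r, ?_⟩
    simp only [e]
    rw [← mul_smul_comm, hr]
    simp only [mul_assoc]
  let ρ : T →ₗ[R] T := LinearMap.mulRight R e
  have hρ : ∀ x ∈ LinearMap.range ρ, x * e = x := by
    rintro _ ⟨x, rfl⟩; simp [ρ, mul_assoc, he]
  have hidem : ρ.rangeRestrict ∘ₗ (LinearMap.range ρ).subtype = LinearMap.id :=
    LinearMap.ext fun x => Subtype.ext (hρ x.1 x.2)
  refine ⟨LinearMap.range ρ, Module.Finite.range ρ, Module.Projective.of_split _ _ hidem, ?_⟩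
  let L : T →ₐ[R] Module.End R (LinearMap.range ρ) :=
    AlgHom.ofLinearMap
      { toFun := fun t =>
          { toFun := fun y => ⟨t * y.1, t * y.1, by simp [ρ, mul_assoc, hρ y.1 y.2]⟩
            map_add' := fun y z => Subtype.ext (mul_add t y.1 z.1)
            map_smul' := fun c y => Subtype.ext (mul_smul_comm c t y.1) }
        map_add' := fun x y => LinearMap.ext fun z => Subtype.ext (add_mul x y z.1)
        map_smul' := fun c x => LinearMap.ext fun z => Subtype.ext (smul_mul_assoc c x z.1) }
      (LinearMap.ext fun z => Subtype.ext (one_mul z.1))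
      (fun x y => LinearMap.ext fun z => Subtype.ext (mul_assoc x y z.1))
  have hL : ∀ t y, (L t y : T) = t * y.1 := fun _ _ => rfl
  let c : Fin k → LinearMap.range ρ := fun j => ⟨a j * s, a j * s, by simp [ρ, mul_assoc, hse]⟩
  have hc : ∀ j, (c j).1 = a j * s := fun _ => rfl
  refine ⟨AlgEquiv.ofBijective L (Function.bijective_iff_has_inverse.mpr
    ⟨fun f => ∑ j, (f (c j)).1 * b j, fun x => ?_, fun f => ?_⟩)⟩
  · simp only [hL, hc, mul_assoc, ← Finset.mul_sum]
    simp only [← mul_assoc, hab, mul_one]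
  · refine LinearMap.ext fun y => Subtype.ext ?_
    rw [hL, Finset.sum_mul]
    choose r hr using fun j => hex (b j * y.1)
    have h1 : ∀ (z : LinearMap.range ρ) (j), z.1 * (b j * y.1) = (r j • z).1 := fun z j => by
      calc z.1 * (b j * y.1) = z.1 * (e * (b j * y.1) * e) := by
            rw [mul_assoc e, ← mul_assoc z.1 e, hρ z.1 z.2, mul_assoc (b j), hρ y.1 y.2]
        _ = r j • (z.1 * e) := by rw [← hr, mul_smul_comm]
        _ = (r j • z).1 := by rw [hρ z.1 z.2]; rfl
    have h2 : y = ∑ j, r j • c j := Subtype.ext <| by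
      rw [Submodule.coe_sum]
      simp only [← h1, hc]
      simp only [← mul_assoc, ← Finset.sum_mul, hab, one_mul]
    calc ∑ j, (f (c j)).1 * b j * y.1 = ∑ j, (r j • f (c j)).1 :=
          Finset.sum_congr rfl fun j _ => by rw [mul_assoc]; exact h1 _ j
      _ = (f y).1 := by rw [← Submodule.coe_sum, h2, map_sum]; simp only [map_smul]

end Regular

theorem rankAtStalk_end (E : Type v) [AddCommGroup E] [Module R E] [Module.Finite R E]
    [Module.Projective R E] (p : PrimeSpectrum R) :
    Module.rankAtStalk (R := R) (Module.End R E) p =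
      Module.rankAtStalk (R := R) E p * Module.rankAtStalk (R := R) E p := by
  obtain ⟨n, i, q, hqi⟩ := exists_retract (R := R) E
  let ii : Module.End R E →ₗ[R] ((Fin (n + 1) → R) →ₗ[R] (Fin (n + 1) → R)) :=
    (LinearMap.llcomp R _ _ _ i).comp (LinearMap.lcomp R E q)
  let rr : ((Fin (n + 1) → R) →ₗ[R] (Fin (n + 1) → R)) →ₗ[R] Module.End R E :=
    (LinearMap.llcomp R _ _ _ q).comp (LinearMap.lcomp R (Fin (n + 1) → R) i)
  have hri : rr ∘ₗ ii = LinearMap.id := by
    ext f x
    simp only [ii, rr, LinearMap.comp_apply, LinearMap.llcomp_apply, LinearMap.lcomp_apply, LinearMap.id_apply]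
    have := fun x => LinearMap.congr_fun hqi x
    simp only [LinearMap.comp_apply, LinearMap.id_apply] at this
    rw [this, this]
  haveI : Module.Finite R (Module.End R E) :=
    Module.Finite.of_surjective rr fun x => ⟨ii x, LinearMap.congr_fun hri x⟩
  haveI : Module.Projective R (Module.End R E) := Module.Projective.of_split ii rr hri
  let K := p.asIdeal.ResidueField
  have h1 : Module.rankAtStalk (R := R) (Module.End R E) p =
      Module.finrank K (K ⊗[R] Module.End R E) := Module.rankAtStalk_eq p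
  have h2 : Module.rankAtStalk (R := R) E p = Module.finrank K (K ⊗[R] E) := Module.rankAtStalk_eq p
  rw [h1, h2, (LinearEquiv.ofBijective _ (endBaseChange_bijective (R := R) E K)).finrank_eq]
  exact Module.finrank_linearMap K K _ _

open TensorMatrix

theorem exists_tensor_power_end (A : Type u) [Ring A] [Algebra R A] [IsAzumaya R A] (n : ℕ)
    (hrk : ∀ p : PrimeSpectrum R, Module.rankAtStalk (R := R) A p = n ^ 2) :
    ∃ (E : Submodule R (⨂[R] _ : Fin n, A)), Module.Finite R E ∧ Module.Projective R E ∧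
      (∀ p : PrimeSpectrum R, Module.rankAtStalk (R := R) E p = n ^ n) ∧
      Nonempty ((⨂[R] _ : Fin n, A) ≃ₐ[R] Module.End R E) := by
  classical
  obtain ⟨U, _, _, _, θ, hθ⟩ := exists_global_splitting A n hrk
  obtain ⟨hTf, hTp⟩ := finite_projective_piTensor (R := R) A n
  let T := ⨂[R] _ : Fin n, A
  let V := U ⊗[R] U
  let P := AlgEquiv.ofBijective (tensorBC U θ) (tensorBC_bijective θ hθ)
  have hP : ∀ z, P z = tensorBC U θ z := fun _ => rfl
  let z₀ := P.symm (antisym U)
  have hz₀ : tensorBC U θ z₀ = antisym U := P.apply_symm_apply _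
  have hbij : ∀ ρ : U →ₐ[R] V, Function.Bijective
      (Algebra.TensorProduct.lift (Algebra.ofId V (Matrix (Fin n) (Fin n) V)) (ρ.mapMatrix.comp θ)
        fun x _ => Algebra.commutes x _) := by
    intro ρ
    obtain ⟨Φ, hΦ⟩ := exists_splitting_baseChange (AlgEquiv.ofBijective _ hθ) ρ
    convert Φ.bijective
    ext z
    induction z using TensorProduct.induction_on with
    | zero => simp
    | add a b ha hb => simp [map_add, ha, hb]
    | tmul c x =>
      have e1 : c ⊗ₜ[R] x = c • ((1 : V) ⊗ₜ[R] x) := by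
        rw [TensorProduct.smul_tmul', smul_eq_mul, mul_one]
      have e2 := Algebra.TensorProduct.lift_tmul (Algebra.ofId V (Matrix (Fin n) (Fin n) V))
        (ρ.mapMatrix.comp θ) (fun x _ => Algebra.commutes x _) 1 x
      have e3 := Algebra.TensorProduct.lift_tmul (Algebra.ofId U (Matrix (Fin n) (Fin n) U))
        θ (fun x _ => Algebra.commutes x _) 1 x
      rw [map_one, one_mul] at e2 e3
      rw [e1, map_smul, map_smul, e2, hΦ, AlgEquiv.ofBijective_apply, e3]
      rfl
  let inl : U →ₐ[R] V := Algebra.TensorProduct.includeLeft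
  let inr : U →ₐ[R] V := Algebra.TensorProduct.includeRight
  have hn : ∀ ρ : U →ₐ[R] V,
      tensorBC V (ρ.mapMatrix.comp θ) (ρ.toLinearMap.rTensor T z₀) = antisym V := fun ρ => by
    rw [tensorBC_map, hz₀]; exact antisym_map U ρ.toRingHom
  have heq : inl.toLinearMap.rTensor T z₀ = inr.toLinearMap.rTensor T z₀ :=
    (tensorBC_bijective _ (hbij inr)).1 <| by
      rw [hn inr]
      exact tensorBC_antisym_eq (inl.mapMatrix.comp θ) (inr.mapMatrix.comp θ) (hbij _) (hbij _) _ (hn inl)
  obtain ⟨s, hs⟩ : ∃ s : T, (1 : U) ⊗ₜ[R] s = z₀ := by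
    have hex : Function.Exact (Algebra.linearMap R U)
        (Algebra.TensorProduct.includeLeftSubRight R U) := Algebra.IsEffective.of_faithfullyFlat R U
    obtain ⟨r, hr⟩ := (Module.Flat.rTensor_exact T hex z₀).mp (by
      have : Algebra.TensorProduct.includeLeftSubRight R U = inl.toLinearMap - inr.toLinearMap :=
        LinearMap.ext fun u => Algebra.TensorProduct.includeLeftSubRight_apply (R := R) u
      rw [this, LinearMap.rTensor_sub, LinearMap.sub_apply, heq, sub_self])
    refine ⟨TensorProduct.lid R T r, hr ▸ ?_⟩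
    clear hr
    induction r using TensorProduct.induction_on with
    | zero => simp
    | add a b ha hb => simp [map_add, tmul_add, ha, hb]
    | tmul a b =>
      rw [TensorProduct.lid_tmul, TensorProduct.tmul_smul, TensorProduct.smul_tmul',
        ← Algebra.algebraMap_eq_smul_one, LinearMap.rTensor_tmul, Algebra.linearMap_apply]
  have hPs : P (1 ⊗ₜ s) = antisym U := by rw [hs]; exact hz₀
  -- regularity
  obtain ⟨t₀, ht₀⟩ : s ∈ LinearMap.range ((LinearMap.mulRight R s).comp (LinearMap.mulLeft R s)) := by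
    refine mem_range_of_baseChange U _ s ⟨P.symm (Matrix.single id id 1), P.injective ?_⟩
    have : ∀ z : U ⊗[R] T, ((LinearMap.mulRight R s).comp (LinearMap.mulLeft R s)).lTensor U z =
        ((1 : U) ⊗ₜ[R] s) * z * ((1 : U) ⊗ₜ[R] s) := fun z => by
      induction z using TensorProduct.induction_on with
      | zero => simp
      | add a b ha hb => simp [map_add, add_mul, mul_add, ha, hb]
      | tmul c t => simp
    rw [this, map_mul, map_mul, hPs, AlgEquiv.apply_symm_apply, antisym_regular]
  have hscal : ∀ x : T, ∃ r : R, r • s = s * x * s := fun x => by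
    refine LinearMap.mem_range.mp
      (mem_range_of_baseChange U (LinearMap.toSpanSingleton R T s) (s * x * s) ?_)
    refine ⟨(dotProduct (wVec U) (Matrix.mulVec (P (1 ⊗ₜ x)) (wVec U))) ⊗ₜ 1, P.injective ?_⟩
    rw [LinearMap.lTensor_tmul, LinearMap.toSpanSingleton_apply, one_smul,
      show (1 : U) ⊗ₜ[R] (s * x * s) = (1 ⊗ₜ s) * (1 ⊗ₜ x) * (1 ⊗ₜ s) by simp,
      map_mul, map_mul, hPs, antisym_mul_mul_antisym, ← hPs, ← map_smul,
      TensorProduct.smul_tmul', smul_eq_mul, mul_one]
  let mid : T ⊗[R] T →ₗ[R] T :=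
    TensorProduct.lift ((LinearMap.mul R T).comp (LinearMap.mulRight R s))
  have hmid : ∀ x y, mid (x ⊗ₜ y) = x * s * y := fun x y => rfl
  obtain ⟨w, hw⟩ : (1 : T) ∈ LinearMap.range mid := by
    refine mem_range_of_baseChange U mid 1 ?_
    have hmem : ∀ z z' : U ⊗[R] T, z * ((1 : U) ⊗ₜ[R] s) * z' ∈ LinearMap.range (mid.lTensor U) := by
      intro z z'
      induction z using TensorProduct.induction_on with
      | zero => simp
      | add a b ha hb => rw [add_mul, add_mul]; exact add_mem ha hb
      | tmul c x =>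
        induction z' using TensorProduct.induction_on with
        | zero => simp
        | add a b ha hb => rw [mul_add]; exact add_mem ha hb
        | tmul d y => exact ⟨(c * d) ⊗ₜ (x ⊗ₜ y), by simp [hmid]⟩
    have : ∑ f : Ix n, P.symm (Matrix.single f id 1) * ((1 : U) ⊗ₜ[R] s) *
        P.symm (Matrix.single id f 1) = 1 := P.injective <| by
      simp only [map_sum, map_mul, AlgEquiv.apply_symm_apply, hPs, ← single_eq_mul_antisym_mul,
        map_one]
      ext a b
      simp [Matrix.sum_apply, Matrix.single_apply, Matrix.one_apply, ite_and]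
    rw [show (1 : U) ⊗ₜ[R] (1 : T) = 1 from rfl, ← this]
    exact Submodule.sum_mem _ fun f _ => hmem _ _
  obtain ⟨S, rfl⟩ := TensorProduct.exists_finset w
  obtain ⟨E, hEf, hEp, ⟨e⟩⟩ := exists_end s t₀ (by simpa [mul_assoc] using ht₀) hscal S.card
    (fun i => (S.equivFin.symm i).1.1) (fun i => (S.equivFin.symm i).1.2) (by
      rw [Equiv.sum_comp S.equivFin.symm (fun z : S => z.1.1 * s * z.1.2), Finset.sum_coe_sort S
        (fun z => z.1 * s * z.2), ← hw, map_sum]
      simp [hmid])
  refine ⟨E, hEf, hEp, fun p => ?_, ⟨e⟩⟩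
  have h1 := rankAtStalk_end (R := R) E p
  rw [← congrFun (Module.rankAtStalk_eq_of_equiv e.toLinearEquiv) p] at h1
  obtain ⟨Q, hQ⟩ := PrimeSpectrum.comap_surjective_of_faithfullyFlat (A := R) (B := U) p
  have h2 := congrFun (Module.rankAtStalk_eq_of_equiv P.toLinearEquiv) Q
  rw [Module.rankAtStalk_baseChange, hQ] at h2
  haveI : Nontrivial U := Q.nontrivial
  rw [Module.rankAtStalk_eq_finrank_of_free (M := Matrix (Ix n) (Ix n) U), h1] at h2
  simp [Module.finrank_matrix] at h2
  exact Nat.mul_self_inj.mp h2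

end Groth.Agent.H23Az
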