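import Mathlib.RingTheory.PiTensorProduct
import Mathlib.LinearAlgebra.PiTensorProduct.Basis
import Mathlib.LinearAlgebra.Matrix.NonsingularInverse
import Mathlib.RingTheory.TensorProduct.Basic
import Mathlib.RingTheory.Flat.Basic
import Mathlib.Tactic

/-! # Tensor powers of split algebras as matrix algebras -/

set_option autoImplicit false

universe u v w

open TensorProduct

namespace Groth.Agent.H23Az.TensorMatrix

variable {n : ℕ}

/-- index set -/
abbrev Ix (n : ℕ) := Fin n → Fin n

section Kron

variable (U : Type w) [CommRing U]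

/-- Kronecker product of `n` matrices. -/
def kron : MultilinearMap U (fun _ : Fin n => Matrix (Fin n) (Fin n) U) (Matrix (Ix n) (Ix n) U) where
  toFun M := Matrix.of fun f g => ∏ i, M i (f i) (g i)
  map_update_add' {inst} M i x y := by
    ext f g
    simp only [Matrix.of_apply, Matrix.add_apply]
    rw [← Finset.mul_prod_erase _ _ (Finset.mem_univ i), ← Finset.mul_prod_erase _ _ (Finset.mem_univ i),
      ← Finset.mul_prod_erase _ _ (Finset.mem_univ i)]
    simp only [Function.update_self, Matrix.add_apply, add_mul]
    congr 1 <;> congr 1 <;> refine Finset.prod_congr rfl fun j hj => ?_ <;>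
      simp [Finset.ne_of_mem_erase hj]
  map_update_smul' {inst} M i c x := by
    ext f g
    simp only [Matrix.of_apply, Matrix.smul_apply, smul_eq_mul]
    rw [← Finset.mul_prod_erase _ _ (Finset.mem_univ i), ← Finset.mul_prod_erase _ _ (Finset.mem_univ i)]
    simp only [Function.update_self, Matrix.smul_apply, smul_eq_mul, mul_assoc]
    congr 2
    refine Finset.prod_congr rfl fun j hj => ?_
    simp [Finset.ne_of_mem_erase hj]

theorem kron_apply (M : Fin n → Matrix (Fin n) (Fin n) U) (f g : Ix n) :
    kron U M f g = ∏ i, M i (f i) (g i) := rfl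

theorem kron_one : kron U (fun _ : Fin n => (1 : Matrix (Fin n) (Fin n) U)) = 1 := by
  ext f g
  rw [kron_apply]
  by_cases h : f = g
  · subst h; simp
  · obtain ⟨i, hi⟩ := Function.ne_iff.mp h
    rw [Matrix.one_apply_ne h]
    exact Finset.prod_eq_zero (Finset.mem_univ i) (Matrix.one_apply_ne hi)

theorem kron_mul (M N : Fin n → Matrix (Fin n) (Fin n) U) :
    kron U (fun i => M i * N i) = kron U M * kron U N := by
  ext f g
  simp only [kron_apply, Matrix.mul_apply, Fintype.prod_sum, Finset.prod_mul_distrib]

theorem kron_map {V : Type v} [CommRing V] (ρ : U →+* V) (M : Fin n → Matrix (Fin n) (Fin n) U) :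
    (kron U M).map ρ = kron V (fun i => (M i).map ρ) := by
  ext f g; simp [kron_apply, map_prod]

theorem kron_single (f g : Ix n) :
    kron U (fun i => Matrix.single (f i) (g i) (1 : U)) = Matrix.single f g 1 := by
  ext a b
  rw [kron_apply]
  by_cases h : f = a ∧ g = b
  · obtain ⟨rfl, rfl⟩ := h; simp
  · rw [Matrix.single_apply, if_neg h]
    obtain ⟨i, hi⟩ : ∃ i, ¬ (f i = a i ∧ g i = b i) := by
      by_contra h0; push Not at h0
      exact h ⟨funext fun i => (h0 i).1, funext fun i => (h0 i).2⟩
    exact Finset.prod_eq_zero (Finset.mem_univ i) (by rw [Matrix.single_apply, if_neg hi])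

end Kron

section Lift

variable {R : Type u} [CommRing R] {A : Type v} [Ring A] [Algebra R A] {U : Type w} [CommRing U]
  [Algebra R U] (θ : A →ₐ[R] Matrix (Fin n) (Fin n) U)

/-- The map induced on tensor powers by a matrix representation. -/
noncomputable def tensorHom : (⨂[R] _ : Fin n, A) →ₐ[R] Matrix (Ix n) (Ix n) U :=
  PiTensorProduct.liftAlgHom
    (((kron U).restrictScalars R).compLinearMap fun _ : Fin n => θ.toLinearMap)
    (by simp only [MultilinearMap.compLinearMap_apply, MultilinearMap.coe_restrictScalars,
          Pi.one_apply, AlgHom.toLinearMap_apply, map_one, kron_one])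
    (fun x y => by simp only [MultilinearMap.compLinearMap_apply, MultilinearMap.coe_restrictScalars,
          Pi.mul_apply, AlgHom.toLinearMap_apply, map_mul, kron_mul])

theorem tensorHom_tprod (x : Fin n → A) :
    tensorHom θ (PiTensorProduct.tprod R x) = kron U (fun i => θ (x i)) :=
  (PiTensorProduct.lift.tprod x).trans rfl

variable (U) in
/-- The base change of `tensorHom`. -/
noncomputable def tensorBC : U ⊗[R] (⨂[R] _ : Fin n, A) →ₐ[U] Matrix (Ix n) (Ix n) U :=
  Algebra.TensorProduct.lift (Algebra.ofId U _) (tensorHom θ) fun x y => Algebra.commutes x _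

theorem tensorBC_tmul (c : U) (t : ⨂[R] _ : Fin n, A) :
    tensorBC U θ (c ⊗ₜ t) = c • tensorHom θ t := by
  exact (Algebra.TensorProduct.lift_tmul _ _ _ c t).trans (Algebra.smul_def c _).symm

theorem list_prod_mulSingle {M : Type*} [Monoid M] (x : Fin n → M) :
    (List.ofFn fun i => Pi.mulSingle (M := fun _ : Fin n => M) i (x i)).prod = x := by
  funext j
  have h := map_list_prod (Pi.evalMonoidHom (fun _ : Fin n => M) j)
    (List.ofFn fun i => Pi.mulSingle (M := fun _ : Fin n => M) i (x i))
  rw [Pi.evalMonoidHom_apply] at h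
  rw [h, List.map_ofFn, List.ofFn_eq_map,
    List.prod_map_eq_pow_single j _ (fun i hi _ => by simp [Pi.mulSingle_eq_of_ne (Ne.symm hi)]),
    List.count_eq_one_of_mem (List.nodup_finRange n) (List.mem_finRange j)]
  simp

theorem tensorBC_bijective
    (hθ : Function.Bijective (Algebra.TensorProduct.lift (Algebra.ofId U (Matrix (Fin n) (Fin n) U))
      θ fun x y => Algebra.commutes x _)) :
    Function.Bijective (tensorBC U θ) := by
  classical
  let e := AlgEquiv.ofBijective (Algebra.TensorProduct.lift (Algebra.ofId U (Matrix (Fin n) (Fin n) U))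
      θ fun x y => Algebra.commutes x _) hθ
  have he : ∀ x : A, e (1 ⊗ₜ x) = θ x := fun x => by
    simp only [e, AlgEquiv.ofBijective_apply]
    exact (Algebra.TensorProduct.lift_tmul _ _ _ 1 x).trans (by rw [map_one, one_mul])
  refine ⟨?_, ?_⟩
  · let ι : ∀ i : Fin n, U ⊗[R] A →ₐ[U] U ⊗[R] (⨂[R] _ : Fin n, A) := fun i =>
      Algebra.TensorProduct.map (AlgHom.id U U) (PiTensorProduct.singleAlgHom (R := R) (A := fun _ : Fin n => A) i)
    let μ : MultilinearMap U (fun _ : Fin n => Matrix (Fin n) (Fin n) U) (U ⊗[R] (⨂[R] _ : Fin n, A)) :=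
      (MultilinearMap.mkPiAlgebraFin U n _).compLinearMap
        fun i => ((ι i).toLinearMap.comp e.symm.toLinearMap)
    let G : Matrix (Ix n) (Ix n) U →ₗ[U] U ⊗[R] (⨂[R] _ : Fin n, A) :=
      (Matrix.stdBasis U (Ix n) (Ix n)).constr U fun p => μ fun i => Matrix.single (p.1 i) (p.2 i) 1
    have hμ : ∀ M : Fin n → Matrix (Fin n) (Fin n) U, G (kron U M) = μ M := fun M => by
      have hext : G.compMultilinearMap (kron U) = μ := by
        refine Module.Basis.ext_multilinear (fun _ => Matrix.stdBasis U (Fin n) (Fin n)) fun v => ?_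
        simp only [LinearMap.compMultilinearMap_apply]
        have hb : ∀ q : Fin n × Fin n,
            Matrix.stdBasis U (Fin n) (Fin n) q = Matrix.single q.1 q.2 (1 : U) :=
          fun q => Matrix.stdBasis_eq_single U q.1 q.2
        simp only [hb, kron_single]
        rw [← Matrix.stdBasis_eq_single U (fun i => (v i).1) (fun i => (v i).2)]
        simp only [G, Module.Basis.constr_basis]
      exact congr($hext M)
    have hleft : ∀ z, G (tensorBC U θ z) = z := by
      intro z
      induction z using TensorProduct.induction_on with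
      | zero => simp
      | add a b ha hb => simp [map_add, ha, hb]
      | tmul c t =>
        induction t using PiTensorProduct.induction_on with
        | add a b ha hb => simp [tmul_add, map_add, ha, hb]
        | smul_tprod r x =>
          have hs : ∀ i, e.symm (θ (x i)) = (1 : U) ⊗ₜ[R] x i := fun i => by
            rw [← he, AlgEquiv.symm_apply_apply]
          have hprod : μ (fun i => θ (x i)) = (1 : U) ⊗ₜ[R] PiTensorProduct.tprod R x := by
            simp only [μ, MultilinearMap.compLinearMap_apply, MultilinearMap.mkPiAlgebraFin_apply,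
              LinearMap.comp_apply, AlgEquiv.toLinearMap_apply, AlgHom.toLinearMap_apply, hs]
            conv_rhs => rw [← list_prod_mulSingle x]
            rw [← PiTensorProduct.tprodMonoidHom_apply, map_list_prod,
              ← Algebra.TensorProduct.includeRight_apply (R := R) (A := U), map_list_prod]
            simp [List.map_ofFn, ι, Function.comp_def, PiTensorProduct.singleAlgHom]
          simp only [TensorProduct.tmul_smul]
          rw [TensorProduct.smul_tmul', tensorBC_tmul, map_smul,
            tensorHom_tprod, hμ, hprod, TensorProduct.smul_tmul', smul_eq_mul, mul_one]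
    exact Function.LeftInverse.injective hleft
  · intro z
    have hkey : ∀ M : Fin n → Matrix (Fin n) (Fin n) U,
        kron U M ∈ LinearMap.range (tensorBC U θ).toLinearMap := by
      intro M
      choose S hS using fun i => TensorProduct.exists_finset (e.symm (M i))
      have hM : M = fun i => ∑ q ∈ S i, q.1 • θ q.2 := funext fun i => by
        rw [← e.apply_symm_apply (M i), hS i, map_sum]
        refine Finset.sum_congr rfl fun q _ => ?_
        rw [← he, ← map_smul, TensorProduct.smul_tmul', smul_eq_mul, mul_one]
      rw [hM, MultilinearMap.map_sum_finset]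
      refine Submodule.sum_mem _ fun q _ => ?_
      rw [MultilinearMap.map_smul_univ, ← tensorHom_tprod]
      refine Submodule.smul_mem _ _ ⟨1 ⊗ₜ PiTensorProduct.tprod R fun i => (q i).2, ?_⟩
      simp [tensorBC_tmul]
    rw [← Matrix.stdBasis U (Ix n) (Ix n) |>.sum_repr z]
    refine Submodule.sum_mem (LinearMap.range (tensorBC U θ).toLinearMap) fun p _ => ?_
    refine Submodule.smul_mem _ _ ?_
    rw [Matrix.stdBasis_eq_single, ← kron_single]
    exact hkey _

end Lift

theorem finite_projective_piTensor {R : Type u} [CommRing R] (A : Type v) [AddCommGroup A]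
    [Module R A] [Module.Finite R A] [Module.Projective R A] (m : ℕ) :
    Module.Finite R (⨂[R] _ : Fin m, A) ∧ Module.Projective R (⨂[R] _ : Fin m, A) := by
  obtain ⟨k, p, hp⟩ := Module.Finite.exists_fin' R A
  obtain ⟨s, hs⟩ := Module.projective_lifting_property p LinearMap.id hp
  let i : (⨂[R] _ : Fin m, A) →ₗ[R] ⨂[R] _ : Fin m, (Fin k → R) := PiTensorProduct.map fun _ => s
  let r : (⨂[R] _ : Fin m, (Fin k → R)) →ₗ[R] ⨂[R] _ : Fin m, A := PiTensorProduct.map fun _ => p
  have hri : r ∘ₗ i = LinearMap.id := by
    rw [← PiTensorProduct.map_comp, hs, ← PiTensorProduct.map_id]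
  let b := Basis.piTensorProduct fun _ : Fin m => Pi.basisFun R (Fin k)
  haveI := Module.Free.of_basis b
  haveI := Module.Finite.of_basis b
  exact ⟨Module.Finite.of_surjective r fun x => ⟨i x, LinearMap.congr_fun hri x⟩,
    Module.Projective.of_split i r hri⟩

end Groth.Agent.H23Az.TensorMatrix
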